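import Groth.Agent.LogDRGeo45.Residue
import Groth.Agent.DRHyp.Devissage
import Groth.Agent.DRHyp.Terms
import Groth.Prelude.Def_E1Deg2

/-!
# Cohomological consequences of the quasi-isomorphism
-/

set_option autoImplicit false

universe w v u

open CategoryTheory CategoryTheory.Limits AlgebraicGeometry Opposite TopologicalSpace TensorProduct exteriorPower
open Groth.Agent.LogDR45

noncomputable section

namespace Groth.Agent.LogDRGeo45

section Abstract

variable {A : Type u} [Category.{v} A] [Abelian A] [HasDerivedCategory.{w} A]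

theorem HTmap_quasiIso_bijective (T : A) {K L : CochainComplex A ℤ} (φ : K ⟶ L) [QuasiIso φ] (n : ℤ) :
    Function.Bijective (E1Deg.HTmap T φ n) := by
  haveI : IsIso (DerivedCategory.Q.map φ) := inferInstance
  haveI : IsIso ((shiftFunctor (DerivedCategory A) n).map (DerivedCategory.Q.map φ)) := inferInstance
  constructor
  · intro x y h
    rw [E1Deg.HTmap_apply, E1Deg.HTmap_apply] at h
    exact (cancel_mono _).1 h
  · exact fun y => ⟨y ≫ inv ((shiftFunctor (DerivedCategory A) n).map (DerivedCategory.Q.map φ)), by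
      rw [E1Deg.HTmap_apply, Category.assoc, IsIso.inv_hom_id, Category.comp_id]⟩

theorem sigmaGEπ_eq (K : CochainComplex A ℤ) (i : ℤ) [K.IsStrictlyGE i] :
    E1Deg.sigmaGEπ K i = E1Deg.sigmaGEι K i ≫ DRHyp.toSingle K i := by
  refine HomologicalComplex.to_single_hom_ext ?_
  rw [HomologicalComplex.comp_f, E1Deg.sigmaGEπ_f, E1Deg.sigmaGEι_f_eq K i (E1Deg.emb_f_zero i)]
  unfold DRHyp.toSingle
  erw [HomologicalComplex.mkHomToSingle_f]
  rw [Category.id_comp]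

/-- Degeneration in degree zero and a quasi-isomorphism give surjectivity on the first graded piece. -/
theorem surjective_comp_mk₀ [HasExt.{w} A] (T : A) {K' K : CochainComplex A ℤ} [K'.IsStrictlyGE 0]
    [K.IsStrictlyGE 0] (φ : K' ⟶ K) [QuasiIso φ] {Y' Y : A} (iso' : K'.X 0 ≅ Y') (iso : K.X 0 ≅ Y) (g : Y' ⟶ Y)
    (hsq : φ.f 0 ≫ iso.hom = iso'.hom ≫ g) (b : ℕ) (hdeg : E1Deg.DegeneratesAt T K (b : ℤ) 0)
    (y : Abelian.Ext.{w} T Y b) : ∃ y' : Abelian.Ext.{w} T Y' b, y'.comp (Abelian.Ext.mk₀ g) (add_zero b) = y := by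
  have hb : (0 : ℤ) + b = (b : ℤ) := zero_add _
  let e := (E1Deg.HTsingleEquiv T (K.X 0) 0 b b hb).trans (E1Deg.extCongrRight.{w} T iso b)
  let e' := (E1Deg.HTsingleEquiv T (K'.X 0) 0 b b hb).trans (E1Deg.extCongrRight.{w} T iso' b)
  obtain ⟨z, hz⟩ := hdeg.2 (e.symm y)
  rw [sigmaGEπ_eq, E1Deg.HTmap_comp] at hz
  obtain ⟨z', hz'⟩ := (HTmap_quasiIso_bijective T φ b).2 (E1Deg.HTmap T (E1Deg.sigmaGEι K 0) b z)
  rw [← hz', ← E1Deg.HTmap_comp, DRHyp.toSingle_natural, E1Deg.HTmap_comp] at hz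
  refine ⟨e' (E1Deg.HTmap T (DRHyp.toSingle K' 0) b z'), ?_⟩
  rw [← e.apply_symm_apply y, ← hz]
  show (((E1Deg.HTsingleEquiv T (K'.X 0) 0 b b hb) _).comp _ (add_zero b)).comp _ (add_zero b) =
    ((E1Deg.HTsingleEquiv T (K.X 0) 0 b b hb) _).comp _ (add_zero b)
  rw [DRHyp.HTsingleEquiv_natural, Abelian.Ext.comp_assoc_of_second_deg_zero,
    Abelian.Ext.comp_assoc_of_second_deg_zero, Abelian.Ext.mk₀_comp_mk₀, Abelian.Ext.mk₀_comp_mk₀]
  congr 2
  exact hsq.symm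

end Abstract

variable {X : Scheme.{u}} {k : Type u} [Field k] {f : X ⟶ Spec (CommRingCat.of k)} [QuasiSeparated f] [IsIntegral X]
  [IsLocallyNoetherian X] {Ω' : X.Modules} {d : OmegaSh.Der f Ω'} {r : ℕ} {D : Fin r → X.IdealSheafData}
  {Λ : LogNCD.LogMod d D} {E : X.Modules} {nabla : Coh.toAb E ⟶ Coh.toAb (CohB1.tensorMod E Λ.L)}
  (K : ConnSh.Cx (LogNCD.der Λ) E nabla) (μ : Fin r → ℕ) (hd : OmegaSh.IsUniversal d) (hD : LogNCD.IsNCD D f)
  (hE : FlatMod.IsFinLocFree E)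
  {nabla' : Coh.toAb (CohB1.tensorMod E (ClSub.idealMod (∏ i, D i ^ μ i))) ⟶
    Coh.toAb (CohB1.tensorMod (CohB1.tensorMod E (ClSub.idealMod (∏ i, D i ^ μ i))) Λ.L)}
  (K' : ConnSh.Cx (LogNCD.der Λ) (CohB1.tensorMod E (ClSub.idealMod (∏ i, D i ^ μ i))) nabla')
  (ht : LogNCD.IsTwist Λ E nabla (∏ i, D i ^ μ i) nabla')

theorem termMap_zero {E' : X.Modules} {nabla₁ : Coh.toAb E' ⟶ Coh.toAb (CohB1.tensorMod E' Λ.L)}
    (K₁ : ConnSh.Cx (LogNCD.der Λ) E' nabla₁) (j : E' ⟶ E) :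
    (exists_termMap K₁ K j).choose 0 ≫ K.iso0.hom = K₁.iso0.hom ≫ j := by
  refine RPSM.hom_ext_affines fun V s => ?_
  obtain ⟨w, rfl⟩ := (K₁.loc 0 V).symm.surjective s
  show K.iso0.hom.app V.1 (((exists_termMap K₁ K j).choose 0).app V.1 ((K₁.loc 0 V).symm w)) =
    j.app V.1 (K₁.iso0.hom.app V.1 ((K₁.loc 0 V).symm w))
  induction w using frm_induction with
  | hgen e ω =>
    have hω : ω = ![] := Subsingleton.elim _ _
    subst hω
    rw [K₁.loc0]
    have h := (exists_termMap K₁ K j).choose_spec 0 V ((K₁.loc 0 V).symm (e ⊗ₜ ιMulti _ 0 ![]))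
    rw [LinearEquiv.apply_symm_apply, mapF_tmul] at h
    rw [← (K.loc 0 V).injective.eq_iff.1 (h.trans ((K.loc 0 V).apply_symm_apply _).symm) |>.symm]
    exact K.loc0 V (j.app V.1 e)
  | hzero => simp
  | hadd a b ha hb => simp only [map_add, ha, hb]
  | hsmul c a ha => simp only [map_smul, Scheme.Modules.Hom.app_smul, ha]

/-- The identification of the degree-zero term. -/
def zeroIso {E' : X.Modules} {nabla₁ : Coh.toAb E' ⟶ Coh.toAb (CohB1.tensorMod E' Λ.L)}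
    (K₁ : ConnSh.Cx (LogNCD.der Λ) E' nabla₁) : K₁.KZ.X 0 ≅ Coh.toAb E' :=
  E1Deg.KZXIso K₁ 0 ≪≫ (SheafOfModules.toSheaf X.ringCatSheaf).mapIso K₁.iso0

theorem kzHom_zero :
    (kzHom K μ hd hD hE K' ht).f 0 ≫ (zeroIso K).hom =
      (zeroIso K').hom ≫ (SheafOfModules.toSheaf X.ringCatSheaf).map (LogNCD.inclTwist E (∏ i, D i ^ μ i)) := by
  rw [kzHom, HomologicalComplex.extendMap_f _ ComplexShape.embeddingUpNat (i := 0) (i' := (0 : ℤ)) rfl]
  simp only [zeroIso, E1Deg.KZXIso, Iso.trans_hom, Functor.mapIso_hom, Category.assoc]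
  erw [Iso.inv_hom_id_assoc]
  show _ ≫ ((K'.iso 0).hom ≫ _ ≫ (K.iso 0).inv) ≫ (K.iso 0).hom ≫ _ = _
  simp only [Category.assoc, Iso.inv_hom_id_assoc]
  refine congrArg (_ ≫ ·) (congrArg ((K'.iso 0).hom ≫ ·) ?_)
  exact ((SheafOfModules.toSheaf X.ringCatSheaf).map_comp _ _).symm.trans
    ((congrArg (SheafOfModules.toSheaf X.ringCatSheaf).map (termMap_zero K K' _)).trans
      ((SheafOfModules.toSheaf X.ringCatSheaf).map_comp _ _))

variable [HasDerivedCategory.{u} (Sheaf (Opens.grothendieckTopology X) AddCommGrpCat.{u})]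

include K K' hd hD hE ht in
/-- Surjectivity of `H^b(E(-D')) → H^b(E)`. -/
theorem surjective_H_incl (hθ : ThetaBij K μ) (hE1 : E1Deg.HyperDegenerates K.KZ (⊤ : X.Opens)) (b : ℕ) :
    Function.Surjective (Sheaf.H.map ((SheafOfModules.toSheaf X.ringCatSheaf).map
      (LogNCD.inclTwist E (∏ i, D i ^ μ i))) b) := by
  intro x
  haveI : QuasiIso (kzHom K μ hd hD hE K' ht) := quasiIso_kzHom K μ hd hD hE K' ht hθ
  obtain ⟨y, hy⟩ := surjective_comp_mk₀.{u} (CohCx.freeSheaf (Opens.grothendieckTopology X) (⊤ : X.Opens))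
    (kzHom K μ hd hD hE K' ht) (zeroIso K') (zeroIso K) _ (kzHom_zero K μ hd hD hE K' ht) b (hE1 b 0)
    ((DRHyp.extTopEquiv _ b).symm x)
  refine ⟨DRHyp.extTopEquiv _ b y, ?_⟩
  rw [← DRHyp.extTopEquiv_comp, hy, AddEquiv.apply_symm_apply]

end Groth.Agent.LogDRGeo45
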