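import Groth.Agent.LogDRGeo45.CxMap

/-!
# The induced map commutes with the differentials
-/

set_option autoImplicit false

universe u

open CategoryTheory AlgebraicGeometry Opposite TopologicalSpace TensorProduct exteriorPower
open Groth.Agent.LogDR45

noncomputable section

namespace Groth.Agent.LogDRGeo45

variable {X : Scheme.{u}}

theorem ideal_eq_top_of_disjoint (I : X.IdealSheafData) (U : X.affineOpens) (h : ∀ y ∈ U.1, y ∉ I.support) :
    I.ideal U = ⊤ := by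
  rw [← PrimeSpectrum.zeroLocus_empty_iff_eq_top, Set.eq_empty_iff_forall_notMem]
  intro P hP
  have h2 := Set.mem_image_of_mem U.2.fromSpec hP
  rw [U.2.fromSpec_image_zeroLocus] at h2
  exact h _ h2.2 ((Scheme.IdealSheafData.mem_support_iff_of_mem h2.2).2 h2.1)

variable {k : Type u} [Field k] {f : X ⟶ Spec (CommRingCat.of k)} [QuasiSeparated f] [IsIntegral X]
  {Ω' : X.Modules} {d : OmegaSh.Der f Ω'} {r : ℕ} {D : Fin r → X.IdealSheafData} (Λ : LogNCD.LogMod d D)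

/-- Affine opens that miss the divisor or carry a frame. -/
def IsGood (U : X.affineOpens) : Prop :=
  (∀ i, (D i).ideal U = ⊤) ∨ (U.1 ≠ ⊥ ∧ Nonempty (LogFrame Λ U))

theorem exists_good (hd : OmegaSh.IsUniversal d) (hD : LogNCD.IsNCD D f) {O : X.Opens} {x : X} (hx : x ∈ O) :
    ∃ U : X.affineOpens, x ∈ U.1 ∧ U.1 ≤ O ∧ IsGood Λ U := by
  by_cases h : Nonempty (LogNCD.Through D x)
  · obtain ⟨W, hxW, hW⟩ := exists_logFrame (Λ := Λ) hd hD h
    obtain ⟨U, hxU, hle⟩ := exists_affine_nhd (W ⊓ O) (x := x) ⟨hxW, hx⟩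
    have hne : U.1 ≠ ⊥ := fun e => by rw [e] at hxU; exact hxU.elim
    exact ⟨U, hxU, hle.trans inf_le_right, Or.inr ⟨hne, hW U (hle.trans inf_le_left) hne⟩⟩
  · let C : X.Opens := ⟨⋂ i, ((D i).support : Set X)ᶜ, isOpen_iInter_of_finite fun i => (D i).support.isClosed.isOpen_compl⟩
    have hxC : x ∈ C := Set.mem_iInter.2 fun i hi => h ⟨⟨i, hi⟩⟩
    obtain ⟨U, hxU, hle⟩ := exists_affine_nhd (C ⊓ O) (x := x) ⟨hxC, hx⟩
    exact ⟨U, hxU, hle.trans inf_le_right,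
      Or.inl fun i => ideal_eq_top_of_disjoint _ U fun y hy => Set.mem_iInter.1 (hle hy).1 i⟩

variable {Λ} {E' E : X.Modules} {nabla' : Coh.toAb E' ⟶ Coh.toAb (CohB1.tensorMod E' Λ.L)}
  {nabla : Coh.toAb E ⟶ Coh.toAb (CohB1.tensorMod E Λ.L)}
  (K' : ConnSh.Cx (LogNCD.der Λ) E' nabla') (K : ConnSh.Cx (LogNCD.der Λ) E nabla) (j : E' ⟶ E)
  (hd : OmegaSh.IsUniversal d)
  (hj : nabla' ≫ (SheafOfModules.toSheaf X.ringCatSheaf).map (KoszTw.tensorMap j (𝟙 Λ.L)) =
    (SheafOfModules.toSheaf X.ringCatSheaf).map j ≫ nabla)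

include hd hj in
theorem mapF_dF_off (U : X.affineOpens) (hU : ∀ i, (D i).ideal U = ⊤) (p : ℕ) (z : Fm Λ.L E' p U.1) :
    mapF j (p + 1) U.1 (dF K' p U z) = dF K p U (mapF j p U.1 z) := by
  have hz := poleFree_eq_top (M := Γ(E', U.1)) (δ := dSec (LogNCD.der Λ) U.1)
    (bas := fun b : Γ(X, U.1) => dlog Λ U.1 b) (c := fun _ => 1) (span_dlog hd U hU) (fun _ => isUnit_one)
    (fun b => ⟨b, (one_smul _ _).trans rfl⟩) p z
  exact map_comm_poleFree (isPFRule K U) (isPFRule K' U) (secLin j U.1) (mapF_nabF K' K j hj U) p hz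

include hd hj in
theorem mapF_dF (hE : FlatMod.IsFinLocFree E) (U : X.affineOpens) (hU : IsGood Λ U) (p : ℕ)
    (z : Fm Λ.L E' p U.1) : mapF j (p + 1) U.1 (dF K' p U z) = dF K p U (mapF j p U.1 z) := by
  rcases hU with hU | ⟨hne, ⟨F⟩⟩
  · exact mapF_dF_off K' K j hd hj U hU p z
  · apply F.resF_injective hne hE K (p + 1)
    rw [← mapF_resF K' K j, resF_dF, resF_dF, ← mapF_resF K' K j]
    exact mapF_dF_off K' K j hd hj F.away F.ideal_away p _

include hd hj in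
theorem cxMapF_comm (hD : LogNCD.IsNCD D f) (hE : FlatMod.IsFinLocFree E) (p : ℕ) :
    cxMapF K' K j p ≫ K.K.d p (p + 1) = K'.K.d p (p + 1) ≫ cxMapF K' K j (p + 1) := by
  refine Sheaf.hom_ext ?_
  ext O s
  choose U hxU hUO hgood using fun x : O.unop => exists_good Λ hd hD x.2
  refine TopCat.Sheaf.eq_of_locally_eq' (F := K.K.X (p + 1)) (fun x => (U x).1) O.unop
    (fun x => homOfLE (hUO x)) (fun y hy => Opens.mem_iSup.2 ⟨⟨y, hy⟩, hxU ⟨y, hy⟩⟩) _ _ fun x => ?_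
  refine (ConcreteCategory.congr_hom ((cxMapF K' K j p ≫ K.K.d p (p + 1)).hom.naturality (homOfLE (hUO x)).op) s).symm.trans
    (Eq.trans ?_ (ConcreteCategory.congr_hom
      ((K'.K.d p (p + 1) ≫ cxMapF K' K j (p + 1)).hom.naturality (homOfLE (hUO x)).op) s))
  generalize hs : (K'.K.X p).obj.map (homOfLE (hUO x)).op s = t
  show (cxMapF K' K j p ≫ K.K.d p (p + 1)).hom.app (op (U x).1) ((K'.K.X p).obj.map (homOfLE (hUO x)).op s) =
    (K'.K.d p (p + 1) ≫ cxMapF K' K j (p + 1)).hom.app (op (U x).1) ((K'.K.X p).obj.map (homOfLE (hUO x)).op s)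
  rw [hs]
  have hinj : Function.Injective (toF K (p + 1) (U x)) :=
    Function.LeftInverse.injective (ofF_toF K (p + 1) (U x))
  apply hinj
  show toF K (p + 1) (U x) ((K.K.d p (p + 1)).hom.app _ ((cxMapF K' K j p).hom.app _ t)) =
    toF K (p + 1) (U x) ((cxMapF K' K j (p + 1)).hom.app _ ((K'.K.d p (p + 1)).hom.app _ t))
  rw [toF_cxMapF]
  have h1 := mapF_dF K' K j hd hj hE (U x) (hgood x) p (toF K' p (U x) t)
  unfold dF at h1
  simp only [AddMonoidHom.comp_apply, ofF_toF] at h1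
  rw [← toF_cxMapF K' K j p, ofF_toF] at h1
  exact h1.symm

end Groth.Agent.LogDRGeo45
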