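import Groth.Agent.LogDRGeo45.Local
import Groth.Agent.RPSM.QCohGen

/-!
# The map of logarithmic de Rham complexes induced by a horizontal map
-/

set_option autoImplicit false

universe u

open CategoryTheory AlgebraicGeometry Opposite TopologicalSpace TensorProduct exteriorPower
open Groth.Agent.LogDR45

noncomputable section

namespace Groth.Agent.LogDRGeo45

variable {X S : Scheme.{u}} {f : X ⟶ S} {Ω' : X.Modules} {δ : OmegaSh.Der f Ω'} {E' E : X.Modules}
  {nabla' : Coh.toAb E' ⟶ Coh.toAb (CohB1.tensorMod E' Ω')}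
  {nabla : Coh.toAb E ⟶ Coh.toAb (CohB1.tensorMod E Ω')}
  (K' : ConnSh.Cx δ E' nabla') (K : ConnSh.Cx δ E nabla) (j : E' ⟶ E)

/-- `j(U)` as a linear map. -/
def secLin (U : X.Opens) : Γ(E', U) →ₗ[Γ(X, U)] Γ(E, U) where
  toFun e := j.app U e
  map_add' a b := map_add _ a b
  map_smul' a e := j.app_smul a e

theorem secLin_apply (U : X.Opens) (e : Γ(E', U)) : secLin j U e = j.app U e := rfl

/-- `j ⊗ 1` on forms. -/
def mapF (p : ℕ) (U : X.Opens) : Fm Ω' E' p U →ₗ[Γ(X, U)] Fm Ω' E p U :=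
  TensorProduct.map (secLin j U) LinearMap.id

theorem mapF_tmul (p : ℕ) (U : X.Opens) (e : Γ(E', U)) (η : ↥(⋀[Γ(X, U)]^p Γ(Ω', U))) :
    mapF j p U (e ⊗ₜ[Γ(X, U)] η) = j.app U e ⊗ₜ[Γ(X, U)] η := rfl

theorem mapF_resF {U V : X.affineOpens} (h : V.1 ≤ U.1) (p : ℕ) (z : Fm Ω' E' p U.1) :
    mapF j p V.1 (resF K' h p z) = resF K h p (mapF j p U.1 z) := by
  induction z using frm_induction with
  | hgen e ω =>
    rw [resF_ιMulti, mapF_tmul, mapF_tmul, resF_ιMulti]
    congr 1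
    exact ConcreteCategory.congr_hom (j.mapPresheaf.naturality (homOfLE h).op) e
  | hzero => simp
  | hadd a b ha hb => simp only [map_add, ha, hb]
  | hsmul c a ha => rw [resF_smul, map_smul, ha, map_smul (mapF j p U.1), resF_smul]

theorem mapF_lw (p : ℕ) (U : X.Opens) (v : Γ(Ω', U)) (z : Fm Ω' E' p U) :
    mapF j (p + 1) U (lw p v z) = lw p v (mapF j p U z) := by
  induction z using TensorProduct.induction_on with
  | zero => simp
  | tmul e η => rfl
  | add a b ha hb => simp only [map_add, ha, hb]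

theorem mapF_tw1 (p : ℕ) (U : X.Opens) (z : Γ(E', U) ⊗[Γ(X, U)] Γ(Ω', U)) (η : ↥(⋀[Γ(X, U)]^p Γ(Ω', U))) :
    mapF j (p + 1) U (tw1 p z η) = tw1 p (TensorProduct.map (secLin j U) LinearMap.id z) η := by
  induction z using TensorProduct.induction_on with
  | zero => simp
  | tmul e v => rw [tw1_tmul, TensorProduct.map_tmul, tw1_tmul]; rfl
  | add a b ha hb => simp only [map_add, LinearMap.add_apply, ha, hb]

/-- Horizontality on sections. -/
theorem mapF_nabF
    (hj : nabla' ≫ (SheafOfModules.toSheaf X.ringCatSheaf).map (KoszTw.tensorMap j (𝟙 Ω')) =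
      (SheafOfModules.toSheaf X.ringCatSheaf).map j ≫ nabla)
    (U : X.affineOpens) (e : Γ(E', U.1)) :
    TensorProduct.map (secLin j U.1) LinearMap.id (nabF K' U e) = nabF K U (j.app U.1 e) := by
  have key : ∀ w : Fm Ω' E' 1 U.1,
      K.loc 1 U (K.iso1.inv.app U.1 ((KoszTw.tensorMap j (𝟙 Ω')).app U.1 (K'.iso1.hom.app U.1 ((K'.loc 1 U).symm w)))) =
        mapF j 1 U.1 w := by
    intro w
    induction w using frm_induction with
    | hgen m ω =>
      rw [show ω = ![ω 0] from funext fun i => by fin_cases i; rfl, K'.loc1, mapF_tmul]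
      have h1 : (KoszTw.tensorMap j (𝟙 Ω')).app U.1 (SecTwist.tmul E' Ω' U.1 m (ω 0)) =
          K.iso1.hom.app U.1 ((K.loc 1 U).symm (j.app U.1 m ⊗ₜ ιMulti _ 1 ![ω 0])) := by
        rw [K.loc1]
        exact KoszTw.tensorMap_tmul j (𝟙 Ω') U.1 m (ω 0)
      refine (congrArg (fun y => K.loc 1 U (K.iso1.inv.app U.1 y)) h1).trans ?_
      have h2 : ∀ y, K.iso1.inv.app U.1 (K.iso1.hom.app U.1 y) = y := fun y =>
        congr(($(K.iso1.hom_inv_id)).app U.1 y)
      exact (congrArg (K.loc 1 U) (h2 _)).trans ((K.loc 1 U).apply_symm_apply _)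
    | hzero => simp
    | hadd a b ha hb => simp only [map_add, ha, hb]
    | hsmul c a ha => simp only [map_smul, Scheme.Modules.Hom.app_smul, ha]
  have hh : TensorProduct.map (secLin j U.1) LinearMap.id =
      (TensorProduct.map LinearMap.id (exteriorPower.oneEquiv Γ(X, U.1) Γ(Ω', U.1)).toLinearMap).comp
        ((mapF j 1 U.1).comp (Conn.toOne (B := Γ(X, U.1)) (M := Γ(E', U.1)) (Ω := Γ(Ω', U.1)))) :=
    TensorProduct.ext' fun m v => by simp [Conn.toOne_tmul, mapF_tmul, secLin_apply]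
  rw [hh, LinearMap.comp_apply, LinearMap.comp_apply, toOne_nabF]
  rw [← key (K'.loc 1 U (K'.iso1.inv.app U.1 (ConnSh.secApp nabla' U.1 e))), LinearEquiv.symm_apply_apply]
  have h3 : K'.iso1.hom.app U.1 (K'.iso1.inv.app U.1 (ConnSh.secApp nabla' U.1 e)) = ConnSh.secApp nabla' U.1 e :=
    congr(($(K'.iso1.inv_hom_id)).app U.1 (ConnSh.secApp nabla' U.1 e))
  have h4 : (KoszTw.tensorMap j (𝟙 Ω')).app U.1 (ConnSh.secApp nabla' U.1 e) = ConnSh.secApp nabla U.1 (j.app U.1 e) :=
    congr(($hj).hom.app (op U.1) e)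
  rw [h3, h4]
  rfl

theorem exists_termMap :
    ∃ φ : ∀ p, K'.term p ⟶ K.term p, ∀ (p : ℕ) (V : X.affineOpens) (s : Γ(K'.term p, V.1)),
      K.loc p V ((φ p).app V.1 s) = mapF j p V.1 (K'.loc p V s) := by
  have : ∀ p, ∃ φ : K'.term p ⟶ K.term p, ∀ (V : X.affineOpens) (s : Γ(K'.term p, V.1)),
      φ.app V.1 s = ((K.loc p V).symm.toLinearMap ∘ₗ mapF j p V.1 ∘ₗ (K'.loc p V).toLinearMap) s := fun p => by
    refine RPSM.exists_hom_of_affines _ fun V W h s => ?_
    show (K.loc p W).symm (mapF j p W.1 (K'.loc p W (rs (K'.term p) h s))) =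
      rs (K.term p) h ((K.loc p V).symm (mapF j p V.1 (K'.loc p V s)))
    apply (K.loc p W).injective
    rw [LinearEquiv.apply_symm_apply]
    refine Eq.trans ?_ (mapF_resF K' K j h p (K'.loc p V s))
    congr 1
    show K'.loc p W ((K'.term p).presheaf.map (homOfLE h).op s) =
      K'.loc p W ((K'.term p).presheaf.map (homOfLE h).op ((K'.loc p V).symm (K'.loc p V s)))
    rw [LinearEquiv.symm_apply_apply]
  choose φ hφ using this
  exact ⟨φ, fun p V s => by rw [hφ]; exact (K.loc p V).apply_symm_apply _⟩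

/-- The map of the degree-`p` terms. -/
def cxMapF (p : ℕ) : K'.K.X p ⟶ K.K.X p :=
  (K'.iso p).hom ≫ (SheafOfModules.toSheaf X.ringCatSheaf).map ((exists_termMap K' K j).choose p) ≫ (K.iso p).inv

theorem toF_cxMapF (p : ℕ) (U : X.affineOpens) (x : (K'.K.X p).obj.obj (op U.1)) :
    toF K p U ((cxMapF K' K j p).hom.app (op U.1) x) = mapF j p U.1 (toF K' p U x) := by
  show K.loc p U ((K.iso p).hom.hom.app (op U.1) ((K.iso p).inv.hom.app (op U.1) _)) = _
  have h : ∀ y : Γ(K.term p, U.1), ((K.iso p).hom.hom.app (op U.1)) (((K.iso p).inv.hom.app (op U.1)) y) = y :=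
    fun y => congr(($((K.iso p).inv_hom_id)).hom.app (op U.1) y)
  exact (congrArg (K.loc p U) (h _)).trans ((exists_termMap K' K j).choose_spec p U _)

end Groth.Agent.LogDRGeo45
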