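import Groth.Agent.LogDRGeo45.QCohLog
import Groth.Agent.LogDRGeo45.CxMap
import Groth.Agent.DRHyp.Terms

/-!
# The terms of a logarithmic de Rham complex as tensor products
-/

set_option autoImplicit false

universe u

open CategoryTheory AlgebraicGeometry Opposite TopologicalSpace TensorProduct exteriorPower
open Groth.Agent.LogDR45

noncomputable section

namespace Groth.Agent.LogDRGeo45

variable {X : Scheme.{u}}

/-- A morphism that is bijective on the sections over affine opens is an isomorphism. -/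
theorem isIso_of_affines {M N : X.Modules} (φ : M ⟶ N) (h : ∀ V : X.affineOpens, Function.Bijective (φ.app V.1)) :
    IsIso φ := by
  let e : ∀ V : X.affineOpens, Γ(M, V.1) ≃ₗ[Γ(X, V.1)] Γ(N, V.1) := fun V =>
    LinearEquiv.ofBijective (secLin φ V.1) (h V)
  obtain ⟨ψ, hψ⟩ := RPSM.exists_hom_of_affines (fun V => (e V).symm.toLinearMap) (fun V W hWV s => by
    apply (e W).injective
    show e W ((e W).symm _) = φ.app W.1 (QCoh.rs M hWV ((e V).symm s))
    rw [LinearEquiv.apply_symm_apply]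
    refine Eq.trans ?_ (ConcreteCategory.congr_hom (φ.mapPresheaf.naturality (homOfLE hWV).op) ((e V).symm s)).symm
    exact congrArg (QCoh.rs N hWV) ((e V).apply_symm_apply s).symm)
  refine ⟨ψ, RPSM.hom_ext_affines fun V s => ?_, RPSM.hom_ext_affines fun V s => ?_⟩
  · show ψ.app V.1 (φ.app V.1 s) = s
    rw [hψ]
    exact (e V).symm_apply_apply s
  · show φ.app V.1 (ψ.app V.1 s) = s
    rw [hψ]
    exact (e V).apply_symm_apply s

variable {S : Scheme.{u}} {f : X ⟶ S} {Ω' : X.Modules} {δ : OmegaSh.Der f Ω'}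

/-- The terms are `E ⊗ Λ^p`, naturally. -/
theorem exists_termTensor {E : X.Modules} {nabla : Coh.toAb E ⟶ Coh.toAb (CohB1.tensorMod E Ω')}
    (K : ConnSh.Cx δ E nabla) (p : ℕ) {Lp : X.Modules}
    (φ : ∀ U : X.affineOpens, Γ(Lp, U.1) ≃ₗ[Γ(X, U.1)] ↥(⋀[Γ(X, U.1)]^p Γ(Ω', U.1)))
    (hφ : ∀ (U V : X.affineOpens) (h : V.1 ≤ U.1) (e : Fin p → Γ(Ω', U.1)),
      rs Lp h ((φ U).symm (ιMulti _ p e)) = (φ V).symm (ιMulti _ p fun j => rs Ω' h (e j))) :
    ∃ ψ : K.term p ⟶ CohB1.tensorMod E Lp, ∀ (V : X.affineOpens) (z : Fm Ω' E p V.1),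
      ψ.app V.1 ((K.loc p V).symm z) =
        QCoh.tmLin E Lp V.1 (TensorProduct.map LinearMap.id (φ V).symm.toLinearMap z) := by
  obtain ⟨ψ, hψ⟩ := RPSM.exists_hom_of_affines (M := K.term p) (N := CohB1.tensorMod E Lp)
    (fun V => (QCoh.tmLin E Lp V.1).comp
      ((TensorProduct.map LinearMap.id (φ V).symm.toLinearMap).comp (K.loc p V).toLinearMap))
    (fun U V h s => by
      obtain ⟨z, rfl⟩ := (K.loc p U).symm.surjective s
      show QCoh.tmLin E Lp V.1 (TensorProduct.map LinearMap.id (φ V).symm.toLinearMap (resF K h p z)) =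
        rs (CohB1.tensorMod E Lp) h (QCoh.tmLin E Lp U.1
          (TensorProduct.map LinearMap.id (φ U).symm.toLinearMap (K.loc p U ((K.loc p U).symm z))))
      rw [LinearEquiv.apply_symm_apply]
      induction z using frm_induction with
      | hgen e ω =>
        rw [resF_ιMulti, TensorProduct.map_tmul, TensorProduct.map_tmul, LinearMap.id_apply, LinearMap.id_apply]
        show SecTwist.tmul E Lp V.1 (rs E h e) ((φ V).symm _) =
          rs (CohB1.tensorMod E Lp) h (SecTwist.tmul E Lp U.1 e ((φ U).symm _))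
        rw [← hφ U V h ω]
        exact (SecTwist.map_tmul E Lp (homOfLE h) e _).symm
      | hzero => simp only [map_zero]; exact (map_zero _).symm
      | hadd a b ha hb => simp only [map_add, ha, hb]; exact (map_add _ _ _).symm
      | hsmul c a ha =>
        rw [resF_smul, map_smul, map_smul, ha, map_smul, map_smul]
        exact (Scheme.Modules.map_smul _ _ _ _).symm)
  exact ⟨ψ, fun V z => (hψ V _).trans (congrArg (fun w => QCoh.tmLin E Lp V.1
    (TensorProduct.map LinearMap.id (φ V).symm.toLinearMap w)) ((K.loc p V).apply_symm_apply z))⟩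

/-- The identification is an isomorphism. -/
theorem isIso_termTensor {E : X.Modules} {nabla : Coh.toAb E ⟶ Coh.toAb (CohB1.tensorMod E Ω')}
    (K : ConnSh.Cx δ E nabla) (p : ℕ) {Lp : X.Modules} (hE : Coh.IsQCoh E) (hLp : Coh.IsQCoh Lp)
    (φ : ∀ U : X.affineOpens, Γ(Lp, U.1) ≃ₗ[Γ(X, U.1)] ↥(⋀[Γ(X, U.1)]^p Γ(Ω', U.1)))
    (ψ : K.term p ⟶ CohB1.tensorMod E Lp)
    (hψ : ∀ (V : X.affineOpens) (z : Fm Ω' E p V.1),
      ψ.app V.1 ((K.loc p V).symm z) =
        QCoh.tmLin E Lp V.1 (TensorProduct.map LinearMap.id (φ V).symm.toLinearMap z)) : IsIso ψ := by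
  refine isIso_of_affines ψ fun V => ?_
  have h : Function.Bijective fun z : Fm Ω' E p V.1 =>
      QCoh.tmLin E Lp V.1 (TensorProduct.map LinearMap.id (φ V).symm.toLinearMap z) :=
    (QCoh.bijective_tmLin hE hLp V.2).comp
      (TensorProduct.congr (LinearEquiv.refl _ _) (φ V).symm).bijective
  have e : ⇑(ψ.app V.1).hom = (fun z => QCoh.tmLin E Lp V.1
      (TensorProduct.map LinearMap.id (φ V).symm.toLinearMap z)) ∘ ⇑(K.loc p V) := funext fun s => by
    show ψ.app V.1 s = _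
    rw [Function.comp_apply, ← hψ, LinearEquiv.symm_apply_apply]
  show Function.Bijective ⇑(ψ.app V.1).hom
  rw [e]
  exact h.comp (K.loc p V).bijective

/-- Naturality of the identification. -/
theorem termTensor_natural {E' E : X.Modules} {nabla' : Coh.toAb E' ⟶ Coh.toAb (CohB1.tensorMod E' Ω')}
    {nabla : Coh.toAb E ⟶ Coh.toAb (CohB1.tensorMod E Ω')} (K' : ConnSh.Cx δ E' nabla') (K : ConnSh.Cx δ E nabla)
    (j : E' ⟶ E) (p : ℕ) {Lp : X.Modules}
    (φ : ∀ U : X.affineOpens, Γ(Lp, U.1) ≃ₗ[Γ(X, U.1)] ↥(⋀[Γ(X, U.1)]^p Γ(Ω', U.1)))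
    (ψ' : K'.term p ⟶ CohB1.tensorMod E' Lp) (ψ : K.term p ⟶ CohB1.tensorMod E Lp)
    (hψ' : ∀ (V : X.affineOpens) (z : Fm Ω' E' p V.1), ψ'.app V.1 ((K'.loc p V).symm z) =
      QCoh.tmLin E' Lp V.1 (TensorProduct.map LinearMap.id (φ V).symm.toLinearMap z))
    (hψ : ∀ (V : X.affineOpens) (z : Fm Ω' E p V.1), ψ.app V.1 ((K.loc p V).symm z) =
      QCoh.tmLin E Lp V.1 (TensorProduct.map LinearMap.id (φ V).symm.toLinearMap z)) :
    (exists_termMap K' K j).choose p ≫ ψ = ψ' ≫ KoszTw.tensorMap j (𝟙 Lp) := by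
  refine RPSM.hom_ext_affines fun V s => ?_
  obtain ⟨z, rfl⟩ := (K'.loc p V).symm.surjective s
  show ψ.app V.1 (((exists_termMap K' K j).choose p).app V.1 _) =
    (KoszTw.tensorMap j (𝟙 Lp)).app V.1 (ψ'.app V.1 _)
  have h := (exists_termMap K' K j).choose_spec p V ((K'.loc p V).symm z)
  rw [LinearEquiv.apply_symm_apply] at h
  rw [(K.loc p V).eq_symm_apply.2 h, hψ, hψ']
  clear h
  induction z using TensorProduct.induction_on with
  | zero => simp only [map_zero]; exact (map_zero _).symm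
  | tmul e η =>
    rw [mapF_tmul, TensorProduct.map_tmul, TensorProduct.map_tmul, LinearMap.id_apply, LinearMap.id_apply]
    exact (KoszTw.tensorMap_tmul j (𝟙 Lp) V.1 e _).symm
  | add a b ha hb => simp only [map_add, ha, hb]; exact (map_add _ _ _).symm

end Groth.Agent.LogDRGeo45
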