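import Groth.Agent.LogDRGeo45.TopDegree
import Groth.Agent.LogDRGeo45.TermTensor

/-!
# Degeneration carries vanishing of hypercohomology to the terms
-/

set_option autoImplicit false

universe w v u

open CategoryTheory CategoryTheory.Limits AlgebraicGeometry Opposite TopologicalSpace

noncomputable section

namespace Groth.Agent.LogDRGeo45

section Abstract

variable {A : Type u} [Category.{v} A] [Abelian A] [HasDerivedCategory.{w} A]

/-- Under degeneration the graded pieces are subquotients of the hypercohomology. -/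
theorem subsingleton_HT_single (T : A) (K : CochainComplex A ℤ) [K.IsStrictlyGE 0] (hdeg : E1Deg.Degenerates T K)
    (i : ℕ) (m : ℤ) [Subsingleton (E1Deg.HT T K m)] :
    Subsingleton (E1Deg.HT T ((HomologicalComplex.single A (ComplexShape.up ℤ) (i : ℤ)).obj (K.X (i : ℤ))) m) := by
  have : Subsingleton (E1Deg.HT T (E1Deg.sigmaGE K (i : ℤ)) m) :=
    (injective_sigmaGEι T K hdeg i m).subsingleton
  exact (hdeg m i).2.subsingleton

theorem subsingleton_ext_of_isZero {B : Type u} [Category.{v} B] [Abelian B] [HasExt.{w} B] (T : B) {Y : B}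
    (hY : IsZero Y) (q : ℕ) : Subsingleton (Abelian.Ext.{w} T Y q) :=
  ⟨fun x y => by
    have e : ∀ z : Abelian.Ext.{w} T Y q, z = 0 := fun z => by
      rw [← Abelian.Ext.comp_mk₀_id z, hY.eq_of_src (𝟙 _) 0, Abelian.Ext.mk₀_zero, Abelian.Ext.comp_zero]
    rw [e x, e y]⟩

end Abstract

variable {X : Scheme.{u}} {k : Type u} [Field k] {f : X ⟶ Spec (CommRingCat.of k)} [QuasiSeparated f] [IsIntegral X]
  {Ω' : X.Modules} {d : OmegaSh.Der f Ω'} {r : ℕ} {D : Fin r → X.IdealSheafData}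
  {Λ : LogNCD.LogMod d D} {E : X.Modules} {nabla : Coh.toAb E ⟶ Coh.toAb (CohB1.tensorMod E Λ.L)}
  (K : ConnSh.Cx (LogNCD.der Λ) E nabla)
  [HasDerivedCategory.{u} (Sheaf (Opens.grothendieckTopology X) AddCommGrpCat.{u})]

/-- If the hypercohomology vanishes in total degree `a + b` then so does `H^b(E ⊗ Ω^a(log D))`. -/
theorem subsingleton_HH_of_HT (hd : OmegaSh.IsUniversal d) (hD : LogNCD.IsNCD D f) (hE : FlatMod.IsFinLocFree E)
    (hE1 : E1Deg.HyperDegenerates K.KZ (⊤ : X.Opens)) (a b : ℕ) {La : X.Modules}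
    (hLa : ExtPow.IsExtPow a Λ.L La)
    [Subsingleton (E1Deg.HT (CohCx.freeSheaf (Opens.grothendieckTopology X) (⊤ : X.Opens)) K.KZ ((a : ℤ) + b))] :
    Subsingleton (Coh.HH X (CohB1.tensorMod E La) b) := by
  have hq : Coh.IsQCoh La := DRHyp.isQCoh_of_isExtPow (isQCoh_L (Λ := Λ) hd hD) a hLa
  obtain ⟨φ, hφ⟩ := hLa
  obtain ⟨ψ, hψ⟩ := exists_termTensor K a φ hφ
  have hi : IsIso ψ := isIso_termTensor K a (QCoh.isQCoh_of_isFinLocFree hE) hq φ ψ hψ
  let iso : K.KZ.X (a : ℤ) ≅ Coh.toAb (CohB1.tensorMod E La) :=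
    E1Deg.KZXIso K a ≪≫ (SheafOfModules.toSheaf X.ringCatSheaf).mapIso (@asIso _ _ _ _ ψ hi)
  have := subsingleton_HT_single (CohCx.freeSheaf (Opens.grothendieckTopology X) (⊤ : X.Opens)) K.KZ hE1 a
    ((a : ℤ) + b)
  exact (((E1Deg.HTsingleEquiv.{u, u} _ (K.KZ.X (a : ℤ)) a _ b rfl).trans (E1Deg.extCongrRight.{u} _ iso b)).trans
    (DRHyp.extTopEquiv _ b)).symm.injective.subsingleton

end Groth.Agent.LogDRGeo45
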