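import Groth.Agent.LogDRGeo45.QCohLog
import Groth.Agent.LogDRGeo45.CxMap
import Groth.Agent.SmoothDim.Basic
import Mathlib.RingTheory.Smooth.StandardSmoothCotangent
import Mathlib.Topology.KrullDimension
import Mathlib.LinearAlgebra.ExteriorPower.Basis

/-!
# Logarithmic forms of degree above the dimension vanish
-/

set_option autoImplicit false

universe u

open CategoryTheory CategoryTheory.Limits AlgebraicGeometry Opposite TopologicalSpace exteriorPower
open Groth.Agent.LogDR45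

noncomputable section

namespace Groth.Agent.LogDRGeo45

variable {X : Scheme.{u}} {k : Type u} [Field k] {f : X ⟶ Spec (CommRingCat.of k)} [QuasiSeparated f] [Smooth f]
  {Ω' : X.Modules} {d : OmegaSh.Der f Ω'}

/-- Every point has an affine neighbourhood with a basis of differentials of size at most the dimension. -/
theorem exists_nhd_basis_le (hd : OmegaSh.IsUniversal d) (n : ℕ) (hn : topologicalKrullDim ↥X ≤ n) (x : X) :
    ∃ (V : X.affineOpens) (m : ℕ), x ∈ V.1 ∧ m ≤ n ∧ Nonempty (Module.Basis (Fin m) Γ(X, V.1) Γ(Ω', V.1)) := by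
  obtain ⟨U, hU, V, hV, hxV, e, hstd⟩ := Smooth.exists_isStandardSmooth f x
  obtain rfl : U = ⊤ := top_le_iff.1 fun y _ => by
    rw [Subsingleton.elim y (f x)]
    exact e hxV
  let _ := DRHyp.kAlg f V
  have : Algebra.IsStandardSmooth k Γ(X, V) := by
    have h1 : RingHom.IsStandardSmooth (DRHyp.constHom f V) :=
      RingHom.isStandardSmooth_respectsIso.2 _
        (Scheme.ΓSpecIso (CommRingCat.of k)).symm.commRingCatIsoToRingEquiv hstd
    exact h1.toAlgebra
  have : Nonempty V := ⟨⟨x, hxV⟩⟩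
  obtain ⟨ι, σ, _, _, ⟨P⟩⟩ := ‹Algebra.IsStandardSmooth k Γ(X, V)›.out
  have : Algebra.IsStandardSmoothOfRelativeDimension P.dimension k Γ(X, V) :=
    ⟨ι, σ, inferInstance, inferInstance, P, rfl⟩
  have hdim : (P.dimension : WithBot ℕ∞) ≤ n := by
    rw [← SmoothDim.ringKrullDim_eq k Γ(X, V) P.dimension,
      ← PrimeSpectrum.topologicalKrullDim_eq_ringKrullDim]
    refine (Topology.IsInducing.topologicalKrullDim_le (f := ⇑hV.fromSpec) ?_).trans hn
    exact hV.fromSpec.isOpenEmbedding.isInducing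
  have hm : P.dimension ≤ n := by exact_mod_cast hdim
  have hr : Module.finrank Γ(X, V) Ω[Γ(X, V)⁄k] = P.dimension :=
    Module.finrank_eq_of_rank_eq
      (Algebra.IsStandardSmoothOfRelativeDimension.rank_kaehlerDifferential P.dimension)
  obtain ⟨eq, -⟩ := exists_equiv hd hV
  exact ⟨⟨V, hV⟩, P.dimension, hxV, hm, ⟨(Module.finBasisOfFinrankEq Γ(X, V) Ω[Γ(X, V)⁄k] hr).map eq⟩⟩

/-- Bases of differentials restrict to basic opens. -/
theorem basis_basicOpen (hd : OmegaSh.IsUniversal d) {V : X.affineOpens} {m : ℕ}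
    (b : Module.Basis (Fin m) Γ(X, V.1) Γ(Ω', V.1)) (g : Γ(X, V.1)) :
    Nonempty (Module.Basis (Fin m) Γ(X, X.basicOpen g) Γ(Ω', X.basicOpen g)) := by
  let _ := QCoh.basicModule g Ω'
  haveI := V.2.isLocalization_basicOpen g
  haveI : IsScalarTower Γ(X, V.1) Γ(X, X.basicOpen g) Γ(Ω', X.basicOpen g) :=
    IsScalarTower.of_algebraMap_smul fun _ _ => rfl
  haveI := QCoh.isLocalizedModule_basicRes g (Synt29.OmegaStalk.isQCoh_of_isUniversal hd) V.2
  exact ⟨b.ofIsLocalizedModule Γ(X, X.basicOpen g) (Submonoid.powers g) (QCoh.basicRes g Ω')⟩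

variable [IsIntegral X] {r : ℕ} {D : Fin r → X.IdealSheafData} {Λ : LogNCD.LogMod d D}

/-- The number of coordinates of a frame is at most the dimension. -/
theorem LogFrame.n_le (hd : OmegaSh.IsUniversal d) {U : X.affineOpens} (F : LogFrame Λ U) (hU : U.1 ≠ ⊥)
    (n : ℕ) (hn : topologicalKrullDim ↥X ≤ n) : F.n ≤ n := by
  have hA : F.away.1 ≠ ⊥ := basicOpen_ne_bot (F.total_ne_zero hU)
  obtain ⟨x, hx⟩ := (Opens.ne_bot_iff_nonempty _).1 hA
  obtain ⟨V, m, hxV, hm, ⟨b⟩⟩ := exists_nhd_basis_le hd n hn x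
  obtain ⟨g, hle, hxg⟩ := V.2.exists_basicOpen_le (V := F.away.1) ⟨x, hx⟩ hxV
  let W : X.affineOpens := ⟨X.basicOpen g, V.2.basicOpen g⟩
  obtain ⟨b'⟩ := basis_basicOpen hd b g
  obtain ⟨bas', -⟩ := F.exists_res W (hle.trans F.away_le) (fun e => by
    have h : x ∈ W.1 := hxg
    rw [e] at h; exact h.elim)
  have hb := iota_bijective (Λ := Λ) hd W (ideal_res_top (U := F.away) hle F.ideal_away)
  let e : Γ(Ω', W.1) ≃ₗ[Γ(X, W.1)] Γ(Λ.L, W.1) := LinearEquiv.ofBijective (secLin Λ.ι W.1) hb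
  haveI : Nonempty W.1 := ⟨⟨x, hxg⟩⟩
  have hcard := Fintype.card_congr ((bas'.map e.symm).indexEquiv b')
  rw [Fintype.card_fin, Fintype.card_fin] at hcard
  exact hcard.trans_le hm

/-- Forms of degree above the dimension vanish on small opens. -/
theorem exists_subsingleton_fm (hd : OmegaSh.IsUniversal d) (hD : LogNCD.IsNCD D f) (E : X.Modules) (n p : ℕ)
    (hn : topologicalKrullDim ↥X ≤ n) (hp : n < p) {O : X.Opens} {x : X} (hx : x ∈ O) :
    ∃ U : X.affineOpens, x ∈ U.1 ∧ U.1 ≤ O ∧ Subsingleton (Fm Λ.L E p U.1) := by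
  suffices key : ∃ (U : X.affineOpens) (m : ℕ), x ∈ U.1 ∧ U.1 ≤ O ∧ m ≤ n ∧
      Nonempty (Module.Basis (Fin m) Γ(X, U.1) Γ(Λ.L, U.1)) by
    obtain ⟨U, m, hxU, hle, hm, ⟨bL⟩⟩ := key
    haveI : Nonempty U.1 := ⟨⟨x, hxU⟩⟩
    haveI := Module.Free.of_basis bL
    haveI := Module.Finite.of_basis bL
    haveI : Subsingleton ↥(⋀[Γ(X, U.1)]^p Γ(Λ.L, U.1)) := by
      rw [← Module.finrank_eq_zero_iff_of_free (R := Γ(X, U.1)), exteriorPower.finrank_eq,
        Module.finrank_eq_card_basis bL, Fintype.card_fin, Nat.choose_eq_zero_of_lt (by omega)]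
    refine ⟨U, hxU, hle, ⟨fun a b => ?_⟩⟩
    have h0 : ∀ z : Fm Λ.L E p U.1, z = 0 := fun z => by
      induction z using TensorProduct.induction_on with
      | zero => rfl
      | tmul e η => rw [Subsingleton.elim η 0, TensorProduct.tmul_zero]
      | add a b ha hb => rw [ha, hb, add_zero]
    rw [h0 a, h0 b]
  obtain ⟨V, m, hxV, hm, ⟨b⟩⟩ := exists_nhd_basis_le hd n hn x
  obtain ⟨U, hxU, hle, hgood⟩ := exists_good Λ hd hD (O := O ⊓ V.1) (x := x) ⟨hx, hxV⟩
  rcases hgood with hU | ⟨hne, ⟨F⟩⟩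
  · obtain ⟨g, hgle, hxg⟩ := V.2.exists_basicOpen_le (V := U.1) ⟨x, hxU⟩ hxV
    let W : X.affineOpens := ⟨X.basicOpen g, V.2.basicOpen g⟩
    obtain ⟨b'⟩ := basis_basicOpen hd b g
    have hb := iota_bijective (Λ := Λ) hd W (ideal_res_top (U := U) hgle hU)
    exact ⟨W, m, hxg, hgle.trans (hle.trans inf_le_left), hm,
      ⟨b'.map (LinearEquiv.ofBijective (secLin Λ.ι W.1) hb)⟩⟩
  · exact ⟨U, F.n, hxU, hle.trans inf_le_left, F.n_le hd hne n hn, ⟨F.bas⟩⟩

variable {E : X.Modules} {nabla : Coh.toAb E ⟶ Coh.toAb (CohB1.tensorMod E Λ.L)}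

/-- The terms above the dimension are zero. -/
theorem isZero_KX (K : ConnSh.Cx (LogNCD.der Λ) E nabla) (hd : OmegaSh.IsUniversal d) (hD : LogNCD.IsNCD D f)
    (n p : ℕ) (hn : topologicalKrullDim ↥X ≤ n) (hp : n < p) : IsZero (K.K.X p) := by
  rw [IsZero.iff_id_eq_zero]
  refine Sheaf.hom_ext ?_
  ext O s
  choose U hxU hUO hsub using fun x : O.unop => exists_subsingleton_fm (Λ := Λ) hd hD E n p hn hp x.2
  refine TopCat.Sheaf.eq_of_locally_eq' (F := K.K.X p) (fun x => (U x).1) O.unop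
    (fun x => homOfLE (hUO x)) (fun y hy => Opens.mem_iSup.2 ⟨⟨y, hy⟩, hxU ⟨y, hy⟩⟩) _ _ fun x => ?_
  haveI := hsub x
  exact Function.LeftInverse.injective (ofF_toF K p (U x)) (Subsingleton.elim _ _)

end Groth.Agent.LogDRGeo45
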