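import Mathlib.Algebra.Homology.HomologicalComplex
import Mathlib.Algebra.Category.Grp.Abelian
import Mathlib.Topology.Sheaves.SheafCondition.UniqueGluing
import Mathlib.CategoryTheory.Sites.SheafCohomology.Basic
import Mathlib.Topology.Sheaves.Abelian

/-!
# A complex of sheaves embedded section-wise in a given complex

Sheaves `Q p` whose sections over `O` embed in those of `K.X p` over a smaller open `ι O`, locally stable under the
differential, form a complex in exactly one way.
-/

set_option autoImplicit false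

universe u

open CategoryTheory CategoryTheory.Limits Opposite TopologicalSpace

noncomputable section

namespace Groth.Agent.LogDRGeo45

variable {T : Type u} [TopologicalSpace T]

/-- Section-wise embeddings of sheaves into the terms of a complex, locally stable under the differential. -/
structure EmbData (K : CochainComplex (Sheaf (Opens.grothendieckTopology T) AddCommGrpCat.{u}) ℕ) where
  /-- the sheaves -/
  Q : ℕ → Sheaf (Opens.grothendieckTopology T) AddCommGrpCat.{u}
  /-- the opens over which the embeddings take values -/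
  ι : Opens T → Opens T
  mono : ∀ {O V : Opens T}, V ≤ O → ι V ≤ ι O
  le : ∀ O, ι O ≤ O
  inf_le : ∀ O V, ι O ⊓ V ≤ ι V
  /-- the embeddings -/
  e : ∀ (p : ℕ) (O : Opens T), (Q p).obj.obj (op O) →+ (K.X p).obj.obj (op (ι O))
  inj : ∀ p O, Function.Injective (e p O)
  nat : ∀ (p : ℕ) {O V : Opens T} (h : V ≤ O) (w : (Q p).obj.obj (op O)),
    e p V ((Q p).obj.map (homOfLE h).op w) = (K.X p).obj.map (homOfLE (mono h)).op (e p O w)
  ex : ∀ (p : ℕ) (O : Opens T) (w : (Q p).obj.obj (op O)) (t : T), t ∈ O → ∃ (V : Opens T) (h : V ≤ O), t ∈ V ∧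
    ∃ y, e (p + 1) V y = (K.d p (p + 1)).hom.app (op (ι V)) (e p V ((Q p).obj.map (homOfLE h).op w))

namespace EmbData

variable {K : CochainComplex (Sheaf (Opens.grothendieckTopology T) AddCommGrpCat.{u}) ℕ} (E : EmbData K)

theorem d_res (p : ℕ) {O V : Opens T} (h : V ≤ O) (w : (E.Q p).obj.obj (op O)) :
    (K.d p (p + 1)).hom.app (op (E.ι V)) (E.e p V ((E.Q p).obj.map (homOfLE h).op w)) =
      (K.X (p + 1)).obj.map (homOfLE (E.mono h)).op ((K.d p (p + 1)).hom.app (op (E.ι O)) (E.e p O w)) := by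
  rw [E.nat]
  exact ConcreteCategory.congr_hom ((K.d p (p + 1)).hom.naturality (homOfLE (E.mono h)).op) (E.e p O w)

theorem exists_d (p : ℕ) (O : Opens T) (w : (E.Q p).obj.obj (op O)) :
    ∃ y : (E.Q (p + 1)).obj.obj (op O), ∀ (V : Opens T) (h : V ≤ O),
      E.e (p + 1) V ((E.Q (p + 1)).obj.map (homOfLE h).op y) =
        (K.d p (p + 1)).hom.app (op (E.ι V)) (E.e p V ((E.Q p).obj.map (homOfLE h).op w)) := by
  choose V hV htV y hy using fun t : O => E.ex p O w t t.2
  have hcompat : TopCat.Presheaf.IsCompatible (X := TopCat.of T) (E.Q (p + 1)).obj V y := fun s t => by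
    apply E.inj (p + 1)
    show E.e (p + 1) _ ((E.Q (p + 1)).obj.map (homOfLE inf_le_left).op (y s)) =
      E.e (p + 1) _ ((E.Q (p + 1)).obj.map (homOfLE inf_le_right).op (y t))
    rw [E.nat, E.nat, hy, hy, E.d_res p (hV s), E.d_res p (hV t)]
    generalize (K.d p (p + 1)).hom.app (op (E.ι O)) (E.e p O w) = z
    rw [← ConcreteCategory.comp_apply, ← ConcreteCategory.comp_apply, ← Functor.map_comp, ← Functor.map_comp]
    rfl
  obtain ⟨z, hz, -⟩ := TopCat.Sheaf.existsUnique_gluing' (X := TopCat.of T) (F := E.Q (p + 1)) V O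
    (fun t => homOfLE (hV t)) (fun x hx => Opens.mem_iSup.2 ⟨⟨x, hx⟩, htV ⟨x, hx⟩⟩) y hcompat
  have hz' : ∀ t, (E.Q (p + 1)).obj.map (homOfLE (hV t)).op z = y t := hz
  refine ⟨z, ?_⟩
  suffices h0 : E.e (p + 1) O z = (K.d p (p + 1)).hom.app (op (E.ι O)) (E.e p O w) by
    intro W hW
    rw [E.nat, h0, E.d_res]
  -- the difference vanishes on a cover
  have hd : ∀ t : O, (K.X (p + 1)).obj.map (homOfLE (E.mono (hV t))).op (E.e (p + 1) O z) =
      (K.X (p + 1)).obj.map (homOfLE (E.mono (hV t))).op ((K.d p (p + 1)).hom.app (op (E.ι O)) (E.e p O w)) := fun t => by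
    rw [← E.nat (p + 1) (hV t), hz', hy, E.d_res p (hV t)]
  refine TopCat.Sheaf.eq_of_locally_eq' (X := TopCat.of T) (F := K.X (p + 1)) (fun t => E.ι (V t)) (E.ι O)
    (fun t => homOfLE (E.mono (hV t))) (fun x hx => Opens.mem_iSup.2
      ⟨⟨x, E.le O hx⟩, E.inf_le O _ ⟨hx, htV ⟨x, E.le O hx⟩⟩⟩) _ _ hd

/-- The differential on sections. -/
def dApp (p : ℕ) (O : Opens T) : (E.Q p).obj.obj (op O) →+ (E.Q (p + 1)).obj.obj (op O) :=
  AddMonoidHom.mk' (fun w => (E.exists_d p O w).choose) fun a b => E.inj (p + 1) O <| by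
    have h : ∀ w, E.e (p + 1) O (E.exists_d p O w).choose = (K.d p (p + 1)).hom.app (op (E.ι O)) (E.e p O w) := by
      intro w
      have := (E.exists_d p O w).choose_spec O le_rfl
      simpa using this
    rw [map_add, h, h, h, map_add, map_add]

theorem e_dApp (p : ℕ) (O : Opens T) (w : (E.Q p).obj.obj (op O)) :
    E.e (p + 1) O (E.dApp p O w) = (K.d p (p + 1)).hom.app (op (E.ι O)) (E.e p O w) := by
  have := (E.exists_d p O w).choose_spec O le_rfl
  simpa [dApp] using this

/-- The differential. -/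
def d (p : ℕ) : E.Q p ⟶ E.Q (p + 1) :=
  ⟨{ app := fun O => AddCommGrpCat.ofHom (E.dApp p O.unop)
     naturality := fun O V i => by
      ext w
      apply E.inj (p + 1) V.unop
      show E.e (p + 1) V.unop (E.dApp p V.unop ((E.Q p).obj.map i w)) =
        E.e (p + 1) V.unop ((E.Q (p + 1)).obj.map i (E.dApp p O.unop w))
      rw [show i = (homOfLE (leOfHom i.unop)).op from rfl, E.e_dApp, E.d_res, E.nat p.succ, E.e_dApp] }⟩

theorem d_app (p : ℕ) (O : Opens T) (w : (E.Q p).obj.obj (op O)) :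
    E.e (p + 1) O ((E.d p).hom.app (op O) w) = (K.d p (p + 1)).hom.app (op (E.ι O)) (E.e p O w) :=
  E.e_dApp p O w

/-- The complex. -/
def cx : CochainComplex (Sheaf (Opens.grothendieckTopology T) AddCommGrpCat.{u}) ℕ :=
  CochainComplex.of E.Q E.d fun p => by
    refine Sheaf.hom_ext ?_
    ext O w
    apply E.inj (p + 2) O.unop
    show E.e (p + 2) O.unop ((E.d (p + 1)).hom.app O ((E.d p).hom.app O w)) = E.e (p + 2) O.unop 0
    rw [map_zero, E.d_app (p + 1) O.unop, E.d_app p O.unop]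
    exact congr(($(K.d_comp_d p (p + 1) (p + 2))).hom.app (op (E.ι O.unop)) (E.e p O.unop w))

theorem cx_d (p : ℕ) : E.cx.d p (p + 1) = E.d p := CochainComplex.of_d ..

theorem e_cx_d (p : ℕ) (O : Opens T) (w : (E.Q p).obj.obj (op O)) :
    E.e (p + 1) O ((E.cx.d p (p + 1)).hom.app (op O) w) = (K.d p (p + 1)).hom.app (op (E.ι O)) (E.e p O w) := by
  rw [E.cx_d]
  exact E.d_app p O w

theorem isZero_X (p : ℕ) (h : IsZero (K.X p)) : IsZero (E.cx.X p) := by
  show IsZero (E.Q p)
  rw [IsZero.iff_id_eq_zero]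
  refine Sheaf.hom_ext ?_
  ext O w
  apply E.inj p O.unop
  have hz : ∀ y : (K.X p).obj.obj (op (E.ι O.unop)), y = 0 := fun y =>
    congr(($(h.eq_of_src (𝟙 (K.X p)) 0)).hom.app (op (E.ι O.unop)) y)
  rw [hz (E.e p O.unop _), hz (E.e p O.unop _)]

end EmbData

end Groth.Agent.LogDRGeo45
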