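import Groth.Agent.DRHyp.Omega
import Groth.Agent.CycCovGeo.Chart
import Mathlib.RingTheory.Etale.Kaehler
import Mathlib.RingTheory.Kaehler.Polynomial

/-!
# Differentials over an affine open: generators and coordinate bases
-/

set_option autoImplicit false

universe u

open CategoryTheory AlgebraicGeometry Opposite TopologicalSpace

noncomputable section

namespace Groth.Agent.LogDRGeo45

variable {k : Type u} [Field k] {X : Scheme.{u}} {f : X ⟶ Spec (CommRingCat.of k)} [QuasiSeparated f]
  {Ω' : X.Modules} {d : OmegaSh.Der f Ω'}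

/-- Sections of a universal receptacle over an affine open are the Kähler differentials. -/
theorem exists_equiv (hd : OmegaSh.IsUniversal d) {U : X.Opens} (hU : IsAffineOpen U) :
    letI := DRHyp.kAlg f U
    ∃ e : Ω[Γ(X, U)⁄k] ≃ₗ[Γ(X, U)] Γ(Ω', U), ∀ b, e (KaehlerDifferential.D k Γ(X, U) b) = d.app U b := by
  letI := DRHyp.kAlg f U
  obtain ⟨a, ha⟩ := Synt29.OmegaStalk.exists_iso_of_universal (OmegaUniv.isUniversal_dOmega f) hd
  let eU : Γ(Omega.sheaf f, U) ≃ₗ[Γ(X, U)] Γ(Ω', U) :=
    { toFun := fun m => a.hom.app U m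
      invFun := fun m => a.inv.app U m
      map_add' := fun m m' => map_add _ m m'
      map_smul' := fun r m => a.hom.app_smul r m
      left_inv := fun m => congr(($(a.hom_inv_id)).app U m)
      right_inv := fun m => congr(($(a.inv_hom_id)).app U m) }
  exact ⟨(DRHyp.omegaEquiv f hU).trans eU, fun b => (congrArg eU (DRHyp.toOmega_D f U b)).trans (ha U b)⟩

/-- Exact forms generate. -/
theorem span_d (hd : OmegaSh.IsUniversal d) {U : X.Opens} (hU : IsAffineOpen U) :
    Submodule.span Γ(X, U) (Set.range fun b : Γ(X, U) => (d.app U b : Γ(Ω', U))) = ⊤ := by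
  letI := DRHyp.kAlg f U
  obtain ⟨e, he⟩ := exists_equiv hd hU
  have h := congrArg (Submodule.map e.toLinearMap) (KaehlerDifferential.span_range_derivation k Γ(X, U))
  rw [Submodule.map_span, Submodule.map_top, LinearEquiv.range, ← Set.range_comp] at h
  rwa [show (fun b : Γ(X, U) => (d.app U b : Γ(Ω', U))) = ⇑e.toLinearMap ∘ ⇑(KaehlerDifferential.D k Γ(X, U)) from
    funext fun b => (he b).symm]

/-- Etale coordinates give a basis of exact forms. -/
theorem exists_coord_basis (hd : OmegaSh.IsUniversal d) {n : ℕ} (W : X.Opens) (v : ULift.{u} (Fin n) → Γ(W, ⊤))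
    (het : Etale (AffineSpace.homOfVector (W.ι ≫ f) v)) (U : X.affineOpens) (h : U.1 ≤ W) :
    ∃ b : Module.Basis (Fin n) Γ(X, U.1) Γ(Ω', U.1),
      ∀ l, b l = (d.app U.1 (LogNCD.sectOn W h (v (ULift.up l))) : Γ(Ω', U.1)) := by
  let _ := DRHyp.kAlg f U.1
  obtain ⟨e, he⟩ := exists_equiv hd U.2
  let φ := CycCovGeo.coordHom f W v h
  let _ : Algebra (MvPolynomial (ULift.{u} (Fin n)) k) Γ(X, U.1) := φ.toAlgebra
  have : Algebra.Etale (MvPolynomial (ULift.{u} (Fin n)) k) Γ(X, U.1) := CycCovGeo.etale_coordHom f W v het U h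
  have : IsScalarTower k (MvPolynomial (ULift.{u} (Fin n)) k) Γ(X, U.1) :=
    IsScalarTower.of_algebraMap_eq fun c => (MvPolynomial.eval₂Hom_C (CycCovGeo.scal f U.1) _ c).symm
  refine ⟨((((KaehlerDifferential.mvPolynomialBasis k (ULift.{u} (Fin n))).baseChange Γ(X, U.1)).map
    (KaehlerDifferential.tensorKaehlerEquivOfFormallyEtale k (MvPolynomial (ULift.{u} (Fin n)) k) Γ(X, U.1))).map e).reindex
      Equiv.ulift, fun l => ?_⟩
  rw [Module.Basis.reindex_apply, Module.Basis.map_apply, Module.Basis.map_apply, Module.Basis.baseChange_apply,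
    KaehlerDifferential.tensorKaehlerEquivOfFormallyEtale_apply, KaehlerDifferential.mapBaseChange_tmul, one_smul,
    ← Module.Basis.repr_symm_single_one, KaehlerDifferential.mvPolynomialBasis_repr_symm_single, one_smul,
    KaehlerDifferential.map_D, he]
  exact congrArg _ (MvPolynomial.eval₂Hom_X' (CycCovGeo.scal f U.1) _ _)

end Groth.Agent.LogDRGeo45
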