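import Groth.Agent.LogDRGeo45.Sections
import Groth.Agent.LogDRGeo45.Omega
import Groth.Agent.ZClosLib.Basic

/-!
# Logarithmic frames
-/

set_option autoImplicit false

universe u

open CategoryTheory AlgebraicGeometry Opposite TopologicalSpace

noncomputable section

namespace Groth.Agent.LogDRGeo45

variable {X S : Scheme.{u}} {f : X ⟶ S} {Ω' : X.Modules} {d : OmegaSh.Der f Ω'} {r : ℕ}
  {D : Fin r → X.IdealSheafData} (Λ : LogNCD.LogMod d D)

/-- The derivation into logarithmic forms, on the sections over an open. -/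
def dlog (U : X.Opens) : Γ(X, U) →+ Γ(Λ.L, U) where
  toFun b := Λ.ι.app U (d.app U b)
  map_zero' := by rw [map_zero]; exact map_zero _
  map_add' a b := by rw [map_add]; exact map_add _ _ _

theorem dlog_apply (U : X.Opens) (b : Γ(X, U)) : dlog Λ U b = Λ.ι.app U (d.app U b) := rfl

theorem der_app (U : X.Opens) (b : Γ(X, U)) : (LogNCD.der Λ).app U b = dlog Λ U b := rfl

theorem dlog_mul (U : X.Opens) (a b : Γ(X, U)) :
    dlog Λ U (a * b) = a • dlog Λ U b + b • dlog Λ U a :=
  Synt29.OmegaStalk.app_mul Λ.L (LogNCD.der Λ) U a b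

theorem dlog_one (U : X.Opens) : dlog Λ U 1 = 0 := by
  have h := dlog_mul Λ U 1 1
  rw [one_mul, one_smul] at h
  exact left_eq_add.1 h

theorem res_dlog (i : Fin r) (U : X.Opens) (b : Γ(X, U)) : (Λ.res i).app U (dlog Λ U b) = 0 :=
  congr(($(Λ.res_ι i)).app U (d.app U b))

theorem dlog_res {U V : X.Opens} (h : V ≤ U) (b : Γ(X, U)) :
    Λ.L.presheaf.map (homOfLE h).op (dlog Λ U b) = dlog Λ V (X.presheaf.map (homOfLE h).op b) :=
  (Synt29.OmegaStalk.app_res Λ.L (LogNCD.der Λ) (homOfLE h) b).symm

/-- A logarithmic frame on an affine open: coordinates `v`, the basis of logarithmic forms, and the coordinate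
cutting out each component that meets the open. -/
structure LogFrame (U : X.affineOpens) where
  /-- the number of coordinates -/
  n : ℕ
  /-- the coordinates -/
  v : Fin n → Γ(X, U.1)
  /-- the basis of logarithmic forms -/
  bas : Module.Basis (Fin n) Γ(X, U.1) Γ(Λ.L, U.1)
  /-- the coordinate of a component -/
  comp : Fin r → Option (Fin n)
  comp_inj : ∀ i j l, comp i = some l → comp j = some l → i = j
  ne_zero : ∀ i l, comp i = some l → v l ≠ 0
  ideal_some : ∀ i l, comp i = some l → (D i).ideal U = Ideal.span {v l}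
  ideal_none : ∀ i, comp i = none → (D i).ideal U = ⊤
  δ_pole : ∀ i l, comp i = some l → dlog Λ U.1 (v l) = v l • bas l
  δ_other : ∀ l, (∀ i, comp i ≠ some l) → dlog Λ U.1 (v l) = bas l
  res_bas : ∀ i l, (Λ.res i).app U.1 (bas l) = if comp i = some l then oneG (D i) U.1 else 0
  exists_res : ∀ (V : X.affineOpens) (h : V.1 ≤ U.1), V.1 ≠ ⊥ →
    ∃ bas' : Module.Basis (Fin n) Γ(X, V.1) Γ(Λ.L, V.1),
      ∀ l, bas' l = Λ.L.presheaf.map (homOfLE h).op (bas l)

variable {Λ}

/-- The equation of a component in a frame. -/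
def LogFrame.eqn {U : X.affineOpens} (F : LogFrame Λ U) (i : Fin r) : Γ(X, U.1) := (F.comp i).elim 1 F.v

theorem LogFrame.ideal_eq {U : X.affineOpens} (F : LogFrame Λ U) (i : Fin r) :
    (D i).ideal U = Ideal.span {F.eqn i} := by
  rw [LogFrame.eqn]
  match h : F.comp i with
  | none => rw [F.ideal_none i h, Option.elim_none, Ideal.span_singleton_one]
  | some l => rw [F.ideal_some i l h, Option.elim_some]

theorem exists_affine_nhd (W : X.Opens) {x : X} (hx : x ∈ W) : ∃ U : X.affineOpens, x ∈ U.1 ∧ U.1 ≤ W := by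
  obtain ⟨_, ⟨U, hU, rfl⟩, hxU, hle⟩ := X.isBasis_affineOpens.exists_subset_of_mem_open hx W.2
  exact ⟨⟨U, hU⟩, hxU, hle⟩

variable {k : Type u} [Field k] {f : X ⟶ Spec (CommRingCat.of k)} [QuasiSeparated f] {d : OmegaSh.Der f Ω'}
  {Λ : LogNCD.LogMod d D}

/-- Around a point of the divisor every small affine open carries a frame. -/
theorem exists_logFrame [IsIntegral X] (hd : OmegaSh.IsUniversal d) (hD : LogNCD.IsNCD D f) {x : X}
    (hx : Nonempty (LogNCD.Through D x)) :
    ∃ W : X.Opens, x ∈ W ∧ ∀ U : X.affineOpens, U.1 ≤ W → U.1 ≠ ⊥ → Nonempty (LogFrame Λ U) := by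
  classical
  obtain ⟨W, hxW, n, w, e, he, het, hcut, hmiss⟩ := hD x hx
  let comp : Fin r → Option (Fin n) := fun i => if hi : x ∈ (D i).support then some (e ⟨i, hi⟩) else none
  have key : ∀ (U : X.affineOpens) (hU : U.1 ≤ W), U.1 ≠ ⊥ →
      ∃ bas : Module.Basis (Fin n) Γ(X, U.1) Γ(Λ.L, U.1),
        (∀ i j l, comp i = some l → comp j = some l → i = j) ∧
        (∀ l, (LogNCD.sectOn W hU (w (ULift.up l)) : Γ(X, U.1)) ≠ 0) ∧
        (∀ i l, comp i = some l → (D i).ideal U = Ideal.span {LogNCD.sectOn W hU (w (ULift.up l))}) ∧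
        (∀ i, comp i = none → (D i).ideal U = ⊤) ∧
        (∀ l, (if ∃ i, comp i = some l then (LogNCD.sectOn W hU (w (ULift.up l)) : Γ(X, U.1)) else 1) • bas l =
          dlog Λ U.1 (LogNCD.sectOn W hU (w (ULift.up l)))) ∧
        ∀ i l, (Λ.res i).app U.1 (bas l) = if comp i = some l then oneG (D i) U.1 else 0 := by
   intro U hU hne
   haveI : Nonempty U.1 := by
     by_contra h
     rw [not_nonempty_iff] at h
     exact hne (by ext y; exact ⟨fun hy => (h.false ⟨y, hy⟩).elim, fun hy => hy.elim⟩)
   obtain ⟨bΩ, hbΩ⟩ := exists_coord_basis hd W w het U hU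
   let v : Fin n → Γ(X, U.1) := fun l => LogNCD.sectOn W hU (w (ULift.up l))
   replace hbΩ : ∀ l, bΩ l = d.app U.1 (v l) := hbΩ
   have hsome : ∀ i l, comp i = some l → ∃ hi : x ∈ (D i).support, e ⟨i, hi⟩ = l := fun i l h => by
     by_cases hi : x ∈ (D i).support
     · exact ⟨hi, Option.some.inj ((dif_pos hi).symm.trans h)⟩
     · exact absurd ((dif_neg hi).symm.trans h) (Option.some_ne_none l).symm
   have hinj : ∀ i j l, comp i = some l → comp j = some l → i = j := fun i j l h h' => by
     obtain ⟨_, e1⟩ := hsome i l h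
     obtain ⟨_, e2⟩ := hsome j l h'
     exact congrArg Subtype.val (he (e1.trans e2.symm))
   have hnone : ∀ i, comp i = none → (D i).ideal U = ⊤ := fun i h =>
     hmiss i (fun hi => absurd ((dif_pos hi).symm.trans h) (Option.some_ne_none _)) U hU
   have hideal : ∀ i l, comp i = some l → (D i).ideal U = Ideal.span {v l} := fun i l h => by
     obtain ⟨hi, rfl⟩ := hsome i l h
     exact hcut ⟨i, hi⟩ U hU
   have hv : ∀ l, v l ≠ 0 := by
     intro l h0
     let φ := CycCovGeo.coordHom f W w hU
     let _ : Algebra (MvPolynomial (ULift.{u} (Fin n)) k) Γ(X, U.1) := φ.toAlgebra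
     have : Algebra.Etale (MvPolynomial (ULift.{u} (Fin n)) k) Γ(X, U.1) := CycCovGeo.etale_coordHom f W w het U hU
     have h1 := CycCovGeo.mem_span_of_mul_mem (k := k) (C := Γ(X, U.1)) (∅ : Set (ULift.{u} (Fin n)))
       (l := ULift.up l) (Set.notMem_empty _) (c := 1)
       (by
         rw [mul_one, Set.image_empty, Ideal.span_empty, Ideal.mem_bot]
         exact (MvPolynomial.eval₂Hom_X' (CycCovGeo.scal f U.1) _ _).trans h0)
     rw [Set.image_empty, Ideal.span_empty, Ideal.mem_bot] at h1
     exact one_ne_zero h1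
   let g : Fin r → Γ(X, U.1) := fun i => (comp i).elim 1 v
   have hg : ∀ i, (D i).ideal U = Ideal.span {g i} := fun i => by
     simp only [g]
     match h : comp i with
     | none => rw [hnone i h, Option.elim_none, Ideal.span_singleton_one]
     | some l => rw [hideal i l h, Option.elim_some]
   obtain ⟨htors, dl, hdl, hspan, hres1, hres0⟩ := Λ.rule U g hg
   -- the forms and the equations
   let cand : Fin n → Γ(Λ.L, U.1) := fun l =>
     if h : ∃ i, comp i = some l then dl h.choose else dlog Λ U.1 (v l)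
   let c : Fin n → Γ(X, U.1) := fun l => if ∃ i, comp i = some l then v l else 1
   have hcand : ∀ i l, comp i = some l → cand l = dl i := fun i l h => by
     have h' : ∃ j, comp j = some l := ⟨i, h⟩
     rw [show cand l = dl h'.choose from dif_pos h', hinj _ _ l h'.choose_spec h]
   have hcv : ∀ l, c l • cand l = dlog Λ U.1 (v l) := fun l => by
     by_cases h : ∃ i, comp i = some l
     · obtain ⟨i, hi⟩ := h
       rw [show c l = v l from if_pos ⟨i, hi⟩, hcand i l hi]
       have := hdl i
       simp only [g, hi, Option.elim_some] at this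
       exact this
     · simp [c, cand, h]
   have hindep : LinearIndependent Γ(X, U.1) cand := by
     rw [Fintype.linearIndependent_iff]
     intro a ha l
     let G : Fin n → Γ(X, U.1) := fun l => ∏ m ∈ Finset.univ.erase l, c m
     have hc0 : ∀ m, c m ≠ 0 := fun m => by
       simp only [c]; split_ifs; exacts [hv m, one_ne_zero]
     have h1 : ∑ m, (a m * G m) • (d.app U.1 (v m) : Γ(Ω', U.1)) = 0 := by
       haveI := Λ.mono
       apply ZClosLib.app_injective_of_mono Λ.ι U.1
       rw [map_zero, map_sum]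
       calc ∑ m, Λ.ι.app U.1 ((a m * G m) • (d.app U.1 (v m) : Γ(Ω', U.1)))
           = ∑ m, (∏ j, c j) • a m • cand m := Finset.sum_congr rfl fun m _ => by
             rw [Scheme.Modules.Hom.app_smul, ← dlog_apply, ← hcv, ← mul_smul, ← mul_smul,
               ← Finset.prod_erase_mul _ _ (Finset.mem_univ m)]
             congr 1
             simp only [G]
             ring
         _ = 0 := by rw [← Finset.smul_sum, ha, smul_zero]
     have h2 := Fintype.linearIndependent_iff.1 bΩ.linearIndependent (fun m => a m * G m) (by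
       simpa only [hbΩ] using h1) l
     exact (mul_eq_zero.1 h2).resolve_right (Finset.prod_ne_zero_iff.2 fun m _ => hc0 m)
   have hsp : ⊤ ≤ Submodule.span Γ(X, U.1) (Set.range cand) := by
     refine hspan.ge.trans (Submodule.span_le.2 (Set.union_subset ?_ ?_))
     · rintro _ ⟨ω, rfl⟩
       show Λ.ι.app U.1 ω ∈ Submodule.span Γ(X, U.1) (Set.range cand)
       rw [← bΩ.sum_repr ω, map_sum]
       refine sum_mem fun m _ => ?_
       rw [Scheme.Modules.Hom.app_smul, hbΩ, ← dlog_apply, ← hcv]
       exact Submodule.smul_mem _ _ (Submodule.smul_mem _ _ (Submodule.subset_span ⟨m, rfl⟩))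
     · rintro _ ⟨i, rfl⟩
       match h : comp i with
       | some l =>
         rw [← hcand i l h]
         exact (Submodule.subset_span (Set.mem_range_self l) : cand l ∈ Submodule.span Γ(X, U.1) (Set.range cand))
       | none =>
         have h0 := hdl i
         simp only [g, h, Option.elim_none] at h0
         have h1 : dl i = 0 := by
           refine Eq.trans ?_ (h0.trans (dlog_one Λ U.1))
           exact (one_smul _ _).symm
         rw [h1]
         exact zero_mem _
   refine ⟨Module.Basis.mk hindep hsp, hinj, hv, hideal, hnone, fun l => ?_, ?_⟩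
   · rw [Module.Basis.mk_apply]; exact hcv l
   · intro i l
     rw [Module.Basis.mk_apply]
     by_cases h : ∃ j, comp j = some l
     · obtain ⟨j, hj⟩ := h
       rw [hcand j l hj]
       by_cases hij : i = j
       · subst hij
         rw [if_pos hj]
         exact hres1 i
       · rw [if_neg fun h => hij (hinj i j l h hj)]
         exact hres0 j i (Ne.symm hij)
     · rw [if_neg fun hi => h ⟨i, hi⟩]
       rw [show cand l = dlog Λ U.1 (v l) from dif_neg h]
       exact res_dlog Λ i U.1 (v l)
  refine ⟨W, hxW, fun U hU hne => ?_⟩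
  obtain ⟨bas, hinj, hv, hideal, hnone, hcv, hres⟩ := key U hU hne
  refine ⟨⟨n, fun l => LogNCD.sectOn W hU (w (ULift.up l)), bas, comp, hinj, fun i l _ => hv l, hideal, hnone,
    fun i l h => ?_, fun l h => ?_, hres, fun V hVU hneV => ?_⟩⟩
  · rw [← hcv, if_pos ⟨i, h⟩]
  · rw [← hcv, if_neg (fun ⟨i, hi⟩ => h i hi), one_smul]
  · obtain ⟨bas', -, hv', -, -, hcv', -⟩ := key V (hVU.trans hU) hneV
    refine ⟨bas', fun l => ?_⟩
    have hs : ∀ m, X.presheaf.map (homOfLE hVU).op (LogNCD.sectOn W hU (w (ULift.up m))) =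
        LogNCD.sectOn W (hVU.trans hU) (w (ULift.up m)) := fun m => by
      rw [LogNCD.sectOn_apply, LogNCD.sectOn_apply, ← CommRingCat.comp_apply (X.presheaf.map _),
        ← Functor.map_comp]
      rfl
    have h1 := congrArg (Λ.L.presheaf.map (homOfLE hVU).op) (hcv l)
    rw [Scheme.Modules.map_smul, dlog_res, hs l, ← hcv' l, apply_ite (X.presheaf.map (homOfLE hVU).op), hs l,
      map_one] at h1
    haveI : Nonempty V.1 := by
      by_contra h
      rw [not_nonempty_iff] at h
      exact hneV (by ext y; exact ⟨fun hy => (h.false ⟨y, hy⟩).elim, fun hy => hy.elim⟩)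
    haveI := Module.Free.of_basis bas'
    refine (Module.Flat.isSMulRegular_of_isRegular (M := Γ(Λ.L, V.1)) (IsRegular.of_ne_zero ?_) h1).symm
    split_ifs with hex
    · exact hv' l
    · exact one_ne_zero

/-- Away from the divisor logarithmic forms are generated by exact forms. -/
theorem span_dlog (hd : OmegaSh.IsUniversal d) (U : X.affineOpens) (h : ∀ i, (D i).ideal U = ⊤) :
    Submodule.span Γ(X, U.1) (Set.range (dlog Λ U.1)) = ⊤ := by
  obtain ⟨-, dl, hdl, hspan, -, -⟩ := Λ.rule U (fun _ => 1) fun i => by rw [h i, Ideal.span_singleton_one]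
  rw [eq_top_iff]
  refine hspan.ge.trans (Submodule.span_le.2 (Set.union_subset ?_ ?_))
  · rintro _ ⟨ω₀, rfl⟩
    suffices H : ∀ ω : Γ(Ω', U.1), Λ.ι.app U.1 ω ∈ Submodule.span Γ(X, U.1) (Set.range (dlog Λ U.1)) from H ω₀
    intro ω
    have hω : ω ∈ Submodule.span Γ(X, U.1) (Set.range fun b : Γ(X, U.1) => (d.app U.1 b : Γ(Ω', U.1))) := by
      rw [span_d hd U.2]; trivial
    induction hω using Submodule.span_induction with
    | mem y hy =>
      obtain ⟨b, rfl⟩ := hy
      exact Submodule.subset_span ⟨b, rfl⟩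
    | zero => rw [map_zero]; exact zero_mem _
    | add a b _ _ ha hb => rw [map_add]; exact add_mem ha hb
    | smul a y _ hy => rw [Scheme.Modules.Hom.app_smul]; exact Submodule.smul_mem _ _ hy
  · rintro _ ⟨i, rfl⟩
    have h1 : dl i = 0 := ((one_smul _ (dl i)).symm.trans (hdl i)).trans (dlog_one Λ U.1)
    rw [h1]
    exact zero_mem _

end Groth.Agent.LogDRGeo45
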