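import Groth.Agent.LogDR45.Acyclic
import Groth.Agent.LogDR45.Semilinear
import Groth.Agent.LogDRGeo45.Frame

/-!
# A logarithmic de Rham complex on the sections over affine opens
-/

set_option autoImplicit false

universe u

open CategoryTheory AlgebraicGeometry Opposite TopologicalSpace exteriorPower TensorProduct
open Groth.Agent.LogDR45

noncomputable section

namespace Groth.Agent.LogDRGeo45

variable {X S : Scheme.{u}} {f : X ⟶ S} {Ω' : X.Modules} {δ : OmegaSh.Der f Ω'} {E : X.Modules}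
  {nabla : Coh.toAb E ⟶ Coh.toAb (CohB1.tensorMod E Ω')} (K : ConnSh.Cx δ E nabla)

/-- Forms of degree `p` over an open. -/
abbrev Fm (Ω' E : X.Modules) (p : ℕ) (U : X.Opens) : Type u := Frm Γ(X, U) Γ(Ω', U) Γ(E, U) p

/-- Restriction of sections. -/
abbrev rs (M : X.Modules) {U V : X.Opens} (h : V ≤ U) (s : Γ(M, U)) : Γ(M, V) := M.presheaf.map (homOfLE h).op s

/-- Sections of a term of the complex, as forms. -/
def toF (p : ℕ) (U : X.affineOpens) : (K.K.X p).obj.obj (op U.1) →+ Fm Ω' E p U.1 :=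
  (K.loc p U).toAddEquiv.toAddMonoidHom.comp ((K.iso p).hom.hom.app (op U.1)).hom

/-- Forms, as sections of a term of the complex. -/
def ofF (p : ℕ) (U : X.affineOpens) : Fm Ω' E p U.1 →+ (K.K.X p).obj.obj (op U.1) :=
  ((K.iso p).inv.hom.app (op U.1)).hom.comp (K.loc p U).symm.toAddEquiv.toAddMonoidHom

theorem toF_ofF (p : ℕ) (U : X.affineOpens) (z : Fm Ω' E p U.1) : toF K p U (ofF K p U z) = z := by
  show K.loc p U (((K.iso p).hom.hom.app (op U.1)) (((K.iso p).inv.hom.app (op U.1)) ((K.loc p U).symm z))) = z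
  have h : ∀ y : Γ(K.term p, U.1), ((K.iso p).hom.hom.app (op U.1)) (((K.iso p).inv.hom.app (op U.1)) y) = y :=
    fun y => congr(($((K.iso p).inv_hom_id)).hom.app (op U.1) y)
  exact (congrArg (K.loc p U) (h _)).trans ((K.loc p U).apply_symm_apply z)

theorem ofF_toF (p : ℕ) (U : X.affineOpens) (x : (K.K.X p).obj.obj (op U.1)) : ofF K p U (toF K p U x) = x := by
  show ((K.iso p).inv.hom.app (op U.1)) ((K.loc p U).symm (K.loc p U _)) = x
  rw [LinearEquiv.symm_apply_apply]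
  exact congr(($((K.iso p).hom_inv_id)).hom.app (op U.1) x)

/-- The differential on forms. -/
def dF (p : ℕ) (U : X.affineOpens) : Fm Ω' E p U.1 →+ Fm Ω' E (p + 1) U.1 :=
  ((toF K (p + 1) U).comp ((K.K.d p (p + 1)).hom.app (op U.1)).hom).comp (ofF K p U)

theorem dF_dF (p : ℕ) (U : X.affineOpens) (z : Fm Ω' E p U.1) : dF K (p + 1) U (dF K p U z) = 0 := by
  show toF K (p + 2) U ((K.K.d (p + 1) (p + 2)).hom.app (op U.1) (ofF K (p + 1) U (toF K (p + 1) U _))) = 0
  rw [ofF_toF]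
  exact (congrArg (toF K (p + 2) U) congr(($(K.K.d_comp_d p (p + 1) (p + 2))).hom.app (op U.1) (ofF K p U z))).trans
    (map_zero _)

/-- The connection on forms. -/
def nabF (U : X.affineOpens) : Γ(E, U.1) →+ Γ(E, U.1) ⊗[Γ(X, U.1)] Γ(Ω', U.1) :=
  ((TensorProduct.map LinearMap.id (exteriorPower.oneEquiv Γ(X, U.1) Γ(Ω', U.1)).toLinearMap).toAddMonoidHom.comp
    ((K.loc 1 U).toAddEquiv.toAddMonoidHom.comp (K.iso1.inv.app U.1).hom)).comp (ConnSh.secApp nabla U.1)

theorem toOne_nabF (U : X.affineOpens) (e : Γ(E, U.1)) :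
    Conn.toOne (nabF K U e) = K.loc 1 U (K.iso1.inv.app U.1 (ConnSh.secApp nabla U.1 e)) := by
  show TensorProduct.map LinearMap.id (exteriorPower.oneEquiv Γ(X, U.1) Γ(Ω', U.1)).symm.toLinearMap
    (TensorProduct.map LinearMap.id (exteriorPower.oneEquiv Γ(X, U.1) Γ(Ω', U.1)).toLinearMap _) = _
  rw [← LinearMap.comp_apply, ← TensorProduct.map_comp, LinearMap.id_comp, LinearEquiv.symm_comp,
    TensorProduct.map_id]
  rfl

/-- The derivation on sections. -/
abbrev dSec (δ : OmegaSh.Der f Ω') (U : X.Opens) : Γ(X, U) →+ Γ(Ω', U) where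
  toFun b := δ.app U b
  map_zero' := map_zero _
  map_add' a b := map_add _ a b

theorem dSec_mul (U : X.Opens) (a b : Γ(X, U)) : dSec δ U (a * b) = a • dSec δ U b + b • dSec δ U a :=
  Synt29.OmegaStalk.app_mul Ω' δ U a b

theorem isPFRule (U : X.affineOpens) : IsPFRule (dSec δ U.1) (nabF K U) (fun p => dF K p U) := by
  intro p e b₀ b
  show toF K (p + 1) U ((K.K.d p (p + 1)).hom.app (op U.1) (ofF K p U _)) = _
  refine (congrArg (toF K (p + 1) U) (K.rule p U e b₀ b)).trans ?_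
  refine (toF_ofF K (p + 1) U _).trans ?_
  rw [← toOne_nabF]
  congr 2
  exact (ext1_ιMulti _ _).symm

variable {p : ℕ} {U V : X.affineOpens} (h : V.1 ≤ U.1)

/-- Restriction of forms. -/
def resF (p : ℕ) : Fm Ω' E p U.1 →+ Fm Ω' E p V.1 :=
  ((K.loc p V).toAddEquiv.toAddMonoidHom.comp ((K.term p).presheaf.map (homOfLE h).op).hom).comp
    (K.loc p U).symm.toAddEquiv.toAddMonoidHom

theorem resF_ιMulti (e : Γ(E, U.1)) (ω : Fin p → Γ(Ω', U.1)) :
    resF K h p (e ⊗ₜ[Γ(X, U.1)] ιMulti Γ(X, U.1) p ω) =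
      rs E h e ⊗ₜ[Γ(X, V.1)] ιMulti Γ(X, V.1) p fun j => rs Ω' h (ω j) :=
  (congrArg (K.loc p V) (K.loc_res p U V h e ω)).trans ((K.loc p V).apply_symm_apply _)

theorem resF_smul (a : Γ(X, U.1)) (z : Fm Ω' E p U.1) :
    resF K h p (a • z) = X.presheaf.map (homOfLE h).op a • resF K h p z := by
  show K.loc p V ((K.term p).presheaf.map (homOfLE h).op ((K.loc p U).symm (a • z))) = _
  rw [map_smul, Scheme.Modules.map_smul, map_smul]
  rfl

theorem resF_dF (z : Fm Ω' E p U.1) : resF K h (p + 1) (dF K p U z) = dF K p V (resF K h p z) := by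
  have e : ∀ (q : ℕ) (x : (K.K.X q).obj.obj (op U.1)),
      resF K h q (toF K q U x) = toF K q V ((K.K.X q).obj.map (homOfLE h).op x) := fun q x => by
    show K.loc q V ((K.term q).presheaf.map (homOfLE h).op ((K.loc q U).symm (K.loc q U _))) = _
    rw [LinearEquiv.symm_apply_apply]
    exact congrArg (K.loc q V) (ConcreteCategory.congr_hom ((K.iso q).hom.hom.naturality (homOfLE h).op) x).symm
  obtain ⟨x, rfl⟩ : ∃ x, toF K p U x = z := ⟨_, toF_ofF K p U z⟩
  rw [e]
  show resF K h (p + 1) (toF K (p + 1) U ((K.K.d p (p + 1)).hom.app (op U.1) (ofF K p U (toF K p U x)))) =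
    toF K (p + 1) V ((K.K.d p (p + 1)).hom.app (op V.1) (ofF K p V (toF K p V _)))
  rw [ofF_toF, ofF_toF, e]
  exact congrArg (toF K (p + 1) V) (ConcreteCategory.congr_hom ((K.K.d p (p + 1)).hom.naturality (homOfLE h).op) x).symm

theorem isRes : IsRes (X.presheaf.map (homOfLE h).op) (rs E h) (rs Ω' h)
    (fun p => resF K h p) :=
  ⟨fun _ e ω => resF_ιMulti K h e ω, fun _ c z => resF_smul K h c z⟩

theorem resF_nabF (e : Γ(E, U.1)) :
    resF K h 1 (Conn.toOne (nabF K U e)) = Conn.toOne (nabF K V (rs E h e)) := by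
  rw [toOne_nabF, toOne_nabF]
  show K.loc 1 V ((K.term 1).presheaf.map (homOfLE h).op ((K.loc 1 U).symm (K.loc 1 U _))) = _
  rw [LinearEquiv.symm_apply_apply]
  refine congrArg (K.loc 1 V) ?_
  refine (ConcreteCategory.congr_hom (K.iso1.inv.mapPresheaf.naturality (homOfLE h).op)
    (ConnSh.secApp nabla U.1 e)).symm.trans ?_
  exact congrArg (K.iso1.inv.app V.1) (ConcreteCategory.congr_hom (nabla.hom.naturality (homOfLE h).op) e).symm

theorem rs_dSec (b : Γ(X, U.1)) : rs Ω' h (dSec δ U.1 b) = dSec δ V.1 (X.presheaf.map (homOfLE h).op b) :=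
  (Synt29.OmegaStalk.app_res Ω' δ (homOfLE h) b).symm

end Groth.Agent.LogDRGeo45
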