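import Groth.Agent.LogDRGeo45.Comm
import Groth.Agent.CycCovGeo.Bridge
import Groth.Agent.LogDR45.Mult

/-!
# The image of a twist and the exactness of the quotient on sections
-/

set_option autoImplicit false

universe u

open CategoryTheory AlgebraicGeometry Opposite TopologicalSpace TensorProduct
open Groth.Agent.LogDR45

noncomputable section

namespace Groth.Agent.LogDRGeo45

variable {X : Scheme.{u}} {r : ℕ} (D : Fin r → X.IdealSheafData) (μ : Fin r → ℕ)

theorem ideal_twist (U : X.affineOpens) : (∏ i, D i ^ μ i).ideal U = ∏ i, (D i).ideal U ^ μ i := by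
  rw [CycCovGeo.prod_ideal, Finset.prod_apply]
  simp only [Scheme.IdealSheafData.ideal_pow, Pi.pow_apply]

theorem ideal_twist_off (U : X.affineOpens) (h : ∀ i, (D i).ideal U = ⊤) :
    (∏ i, D i ^ μ i).ideal U = Ideal.span {(1 : Γ(X, U.1))} := by
  rw [ideal_twist, Ideal.span_singleton_one, ← Ideal.one_eq_top]
  refine Finset.prod_eq_one fun i _ => ?_
  rw [h i, ← Ideal.one_eq_top, one_pow]

variable {k : Type u} [Field k] {f : X ⟶ Spec (CommRingCat.of k)} [QuasiSeparated f] [IsIntegral X] {Ω' : X.Modules} {d : OmegaSh.Der f Ω'} {D} {Λ : LogNCD.LogMod d D}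
  {U : X.affineOpens}

/-- The multiplicities of the coordinates. -/
def LogFrame.mult (F : LogFrame Λ U) (l : Fin F.n) : ℕ := ∑ i, if F.comp i = some l then μ i else 0

theorem LogFrame.mult_eq (F : LogFrame Λ U) {i : Fin r} {l : Fin F.n} (h : F.comp i = some l) :
    LogFrame.mult μ F l = μ i := by
  rw [LogFrame.mult, Finset.sum_eq_single i (fun b _ hb => if_neg fun hb' => hb (F.comp_inj b i l hb' h))
    (fun h => absurd (Finset.mem_univ i) h), if_pos h]

theorem LogFrame.ideal_twist (F : LogFrame Λ U) :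
    (∏ i, D i ^ μ i).ideal U = Ideal.span {∏ l ∈ F.poles, F.v l ^ F.mult μ l} := by
  classical
  rw [LogDRGeo45.ideal_twist, Finset.prod_congr rfl fun i _ => by rw [F.ideal_eq i, Ideal.span_singleton_pow],
    Ideal.prod_span_singleton]
  congr 2
  simp only [LogFrame.mult, ← Finset.prod_pow_eq_pow_sum]
  rw [Finset.prod_comm]
  refine Finset.prod_congr rfl fun i _ => ?_
  rw [LogFrame.eqn]
  match h : F.comp i with
  | none =>
    rw [Option.elim_none, one_pow, eq_comm]
    exact Finset.prod_eq_one fun l _ => by simp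
  | some l₀ =>
    rw [Option.elim_some, Finset.prod_eq_single l₀ (fun l _ hl => by
      rw [if_neg (fun e => hl (Option.some.inj e).symm), pow_zero])
      (fun hn => absurd (F.mem_poles l₀ |>.2 ⟨i, h⟩) hn), if_pos rfl]

variable {E : X.Modules} [IsLocallyNoetherian X] (hE : FlatMod.IsFinLocFree E)
  (I : X.IdealSheafData)

include hE in
/-- The forms coming from the twist are the multiples of the equation. -/
theorem mem_range_mapF_iff {G : Γ(X, U.1)} (hG : I.ideal U = Ideal.span {G}) (p : ℕ) (z : Fm Ω' E p U.1) :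
    z ∈ Set.range (mapF (Ω' := Ω') (LogNCD.inclTwist E I) p U.1) ↔
      z ∈ Chart.mult G (Fm Ω' E p U.1) := by
  refine range_map_eq_mult (secLin (LogNCD.inclTwist E I) U.1) G (fun e' => ?_) (fun e => ?_) z
  · obtain ⟨e, k, hk, he'⟩ := inclTwist_mem E I (QCoh.isQCoh_of_isFinLocFree hE) U hG e'
    refine ⟨e, ?_⟩
    rw [secLin_apply, he', ← hk]
    exact inclTwist_tmul E I U.1 e k
  · exact exists_inclTwist_eq E I U (hG ▸ Ideal.mem_span_singleton_self G) e

end Groth.Agent.LogDRGeo45
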