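import Groth.Agent.LogDRGeo45.Residue

/-!
# Residues of a twist
-/

set_option autoImplicit false

universe u

open CategoryTheory CategoryTheory.Limits AlgebraicGeometry Opposite TopologicalSpace TensorProduct
open Groth.Agent.LogDR45

noncomputable section

namespace Groth.Agent.LogDRGeo45

variable {X : Scheme.{u}}

theorem app_sub_nsmul {M : X.Modules} (R : M ⟶ M) (s : ℕ) (U : X.Opens) (y : Γ(M, U)) :
    (R - s • 𝟙 M : M ⟶ M).app U y = R.app U y - s • y := by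
  rw [eq_sub_iff_add_eq, ← app_nsmul_apply s U y, ← AddCommGrpCat.hom_add_apply, ← Scheme.Modules.Hom.add_app,
    sub_add_cancel]

/-- A map lifting an isomorphism of the restriction to a principal divisor is bijective modulo the equation. -/
theorem bij_of_key [IsLocallyNoetherian X] {E : X.Modules} (hE : Coh.IsQCoh E) (I : X.IdealSheafData)
    (U : X.affineOpens) {x : Γ(X, U.1)} (hI : I.ideal U = Ideal.span {x}) (θ : Γ(E, U.1) → Γ(E, U.1))
    (T : CohB1.tensorMod E (ClSub.quotMod I) ⟶ CohB1.tensorMod E (ClSub.quotMod I)) [IsIso T]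
    (key : ∀ e, quotSect E I U.1 (θ e) = T.app U.1 (quotSect E I U.1 e)) :
    (∀ e, ∃ e', θ e' - e ∈ Chart.mult x Γ(E, U.1)) ∧
      ∀ e, θ e ∈ Chart.mult x Γ(E, U.1) → e ∈ Chart.mult x Γ(E, U.1) := by
  have hker : ∀ e, quotSect E I U.1 e = 0 → e ∈ Chart.mult x Γ(E, U.1) :=
    fun e he => exists_smul_of_quotSect_eq_zero E I hE U hI he
  have hmul : ∀ e ∈ Chart.mult x Γ(E, U.1), quotSect E I U.1 e = 0 := by
    rintro _ ⟨e, rfl⟩
    exact quotSect_smul_eq_zero E I U (hI ▸ Ideal.mem_span_singleton_self _) e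
  have hT : Function.Bijective (T.app U.1) := ConcreteCategory.bijective_of_isIso (T.app U.1)
  refine ⟨fun e => ?_, fun e he => hker e (hT.1 ?_)⟩
  · obtain ⟨y, hy⟩ := hT.2 (quotSect E I U.1 e)
    obtain ⟨e', rfl⟩ := quotSect_surjective E I hE U y
    exact ⟨e', hker _ (by rw [map_sub, key, hy, sub_self])⟩
  · rw [← key, hmul _ he, map_zero]

variable {k : Type u} [Field k] {f : X ⟶ Spec (CommRingCat.of k)} [QuasiSeparated f] [IsIntegral X]
  [IsLocallyNoetherian X] {Ω' : X.Modules} {d : OmegaSh.Der f Ω'} {r : ℕ} {D : Fin r → X.IdealSheafData}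
  {Λ : LogNCD.LogMod d D} {F : X.Modules} {nablaF : Coh.toAb F ⟶ Coh.toAb (CohB1.tensorMod F Λ.L)}
  (hcF : ConnSh.IsConn (LogNCD.der Λ) F nablaF) (KF : ConnSh.Cx (LogNCD.der Λ) F nablaF) (μ : Fin r → ℕ)
  {nabla : Coh.toAb (CohB1.tensorMod F (ClSub.idealMod (∏ i, D i ^ μ i))) ⟶
    Coh.toAb (CohB1.tensorMod (CohB1.tensorMod F (ClSub.idealMod (∏ i, D i ^ μ i))) Λ.L)}
  (K : ConnSh.Cx (LogNCD.der Λ) (CohB1.tensorMod F (ClSub.idealMod (∏ i, D i ^ μ i))) nabla)
  (ht : LogNCD.IsTwist Λ F nablaF (∏ i, D i ^ μ i) nabla)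

include hcF in
theorem nabF_smul (U : X.affineOpens) (t : Γ(X, U.1)) (e : Γ(F, U.1)) :
    nabF KF U (t • e) = t • nabF KF U e + e ⊗ₜ[Γ(X, U.1)] dlog Λ U.1 t := by
  have hinv : ∀ v : Γ(Λ.L, U.1),
      TensorProduct.map LinearMap.id (exteriorPower.oneEquiv Γ(X, U.1) Γ(Λ.L, U.1)).toLinearMap
        (KF.loc 1 U (KF.iso1.inv.app U.1 (SecTwist.tmul F Λ.L U.1 e v))) = e ⊗ₜ[Γ(X, U.1)] v := fun v => by
    have h1 : KF.iso1.inv.app U.1 (SecTwist.tmul F Λ.L U.1 e v) =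
        (KF.loc 1 U).symm (e ⊗ₜ exteriorPower.ιMulti _ 1 ![v]) :=
      (congrArg (KF.iso1.inv.app U.1) (KF.loc1 U e v)).symm.trans congr(($(KF.iso1.hom_inv_id)).app U.1 _)
    rw [h1, LinearEquiv.apply_symm_apply, TensorProduct.map_tmul, LinearMap.id_apply]
    congr 1
    exact exteriorPower.oneEquiv_ιMulti _
  show TensorProduct.map LinearMap.id (exteriorPower.oneEquiv Γ(X, U.1) Γ(Λ.L, U.1)).toLinearMap
    (KF.loc 1 U (KF.iso1.inv.app U.1 (ConnSh.secApp nablaF U.1 (t • e)))) = _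
  have h2 : KF.iso1.inv.app U.1 (ConnSh.secApp nablaF U.1 (t • e)) =
      t • KF.iso1.inv.app U.1 (ConnSh.secApp nablaF U.1 e) +
        KF.iso1.inv.app U.1 (SecTwist.tmul F Λ.L U.1 e (dlog Λ U.1 t)) :=
    (congrArg (KF.iso1.inv.app U.1) (hcF U.1 t e)).trans ((map_add _ _ _).trans
      (congrArg (· + _) (KF.iso1.inv.app_smul t _)))
  rw [h2, map_add, map_add, map_smul, map_smul]
  exact congrArg₂ (· + ·) rfl (hinv _)

variable (hd : OmegaSh.IsUniversal d) (hF : FlatMod.IsFinLocFree F)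

include hcF hd hF ht K in
/-- The shifted residues of the positive twist. -/
theorem thetaBij_of_twist
    (ρ : ∀ i, CohB1.tensorMod F (ClSub.idealMod (∏ j, D j ^ μ j)) ⟶
      CohB1.tensorMod (CohB1.tensorMod F (ClSub.idealMod (∏ j, D j ^ μ j))) (ClSub.quotMod (D i)))
    (hρ : ∀ i, LogNCD.IsResidue Λ (CohB1.tensorMod F (ClSub.idealMod (∏ j, D j ^ μ j))) nabla i (ρ i))
    (R : ∀ i, CohB1.tensorMod (CohB1.tensorMod F (ClSub.idealMod (∏ j, D j ^ μ j))) (ClSub.quotMod (D i)) ⟶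
      CohB1.tensorMod (CohB1.tensorMod F (ClSub.idealMod (∏ j, D j ^ μ j))) (ClSub.quotMod (D i)))
    (hR : ∀ i, (SecTwist.unitorR _).inv ≫ KoszTw.tensorMap (𝟙 _) (ClSub.toSubscheme (D i)) ≫ R i = ρ i)
    (hres : ∀ i (m : ℕ), 1 ≤ m → m ≤ μ i → IsIso (R i - m • 𝟙 _)) :
    ThetaBij KF μ := by
  intro U Fr hne i l hl m hm
  haveI : Nonempty U.1 := by
    by_contra h
    rw [not_nonempty_iff] at h
    exact hne (by ext y; exact ⟨fun hy => (h.false ⟨y, hy⟩).elim, fun hy => hy.elim⟩)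
  set x := Fr.v l with hx
  set s := μ i - m with hs
  haveI := hres i s (by omega) (by omega)
  let ev := evalR (M := Γ(F, U.1)) (Fr.bas.coord l)
  let j := LogNCD.inclTwist F (∏ j, D j ^ μ j)
  let ψ : Γ(CohB1.tensorMod F (ClSub.idealMod (∏ j, D j ^ μ j)), U.1) → Γ(CohB1.tensorMod F (ClSub.idealMod (∏ j, D j ^ μ j)), U.1) := fun e' =>
    evalR (Fr.bas.coord l) (nabF K U e') - s • e'
  have hq : Coh.IsQCoh (CohB1.tensorMod F (ClSub.idealMod (∏ j, D j ^ μ j))) :=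
    KFlatLib.isQCoh_tensor (QCoh.isQCoh_of_isFinLocFree hF) (SurfInt.isCoh_idealMod (∏ j, D j ^ μ j)).1
  obtain ⟨hsurj, hinj⟩ := bij_of_key hq (D i) U (Fr.ideal_some i l hl) ψ (R i - s • 𝟙 _) (fun e' => by
    simp only [ψ]
    rw [map_sub, map_nsmul, app_sub_nsmul, quotSect_evalR K (hρ i) (hR i) Fr hl])
  -- the equation of the twist
  set G : Γ(X, U.1) := ∏ a ∈ Fr.poles, Fr.v a ^ Fr.mult μ a with hGdef
  have hG : (∏ j, D j ^ μ j).ideal U = Ideal.span {G} := Fr.ideal_twist μ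
  have hl' : l ∈ Fr.poles := (Fr.mem_poles l).2 ⟨i, hl⟩
  have hG0 : G ≠ 0 := Finset.prod_ne_zero_iff.2 fun a ha => by
    obtain ⟨i', hi'⟩ := (Fr.mem_poles a).1 ha
    exact pow_ne_zero _ (Fr.ne_zero i' a hi')
  have hGreg := isSMulRegular_sections hF U.2 hG0
  have hδG : Fr.bas.coord l (dlog Λ U.1 G) = μ i • G := by
    have h1 : dlog Λ U.1 G = G • ∑ a ∈ Fr.poles, Fr.mult μ a • Fr.bas a :=
      (Fr.chart hd hne hF KF).δ_mon (Fr.mult μ)
    rw [h1, map_smul, map_sum, Finset.sum_eq_single l, map_nsmul, Module.Basis.coord_apply,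
      Module.Basis.repr_self, Finsupp.single_eq_same, Fr.mult_eq μ hl, smul_eq_mul, nsmul_eq_mul, nsmul_eq_mul,
      mul_one, mul_comm]
    · intro a _ ha
      rw [map_nsmul, Module.Basis.coord_apply, Module.Basis.repr_self, Finsupp.single_eq_of_ne (Ne.symm ha),
        smul_zero]
    · exact fun h => absurd hl' h
  have hkey : ∀ (e : Γ(F, U.1)) (e' : Γ(CohB1.tensorMod F (ClSub.idealMod (∏ j, D j ^ μ j)), U.1)),
      j.app U.1 e' = G • e → j.app U.1 (ψ e') = G • thetaF KF Fr l m e := by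
    intro e e' he'
    have hev : ∀ w, j.app U.1 (evalR (Fr.bas.coord l) w) =
        ev (TensorProduct.map (secLin j U.1) LinearMap.id w) := fun w => by
      induction w using TensorProduct.induction_on with
      | zero => simp only [map_zero]
      | tmul a v => rw [TensorProduct.map_tmul, evalR_tmul]; simp only [ev, evalR_tmul]; exact j.app_smul _ _
      | add a b ha hb => simp only [map_add, ha, hb]
    simp only [ψ]
    rw [map_sub, map_nsmul, hev, mapF_nabF K KF j ht U e', he', nabF_smul hcF KF U G e, map_add, map_smul]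
    simp only [ev, evalR_tmul, hδG, thetaF, smul_add]
    rw [smul_assoc, smul_comm G m e, show μ i = m + s by omega, add_smul]
    abel
  have hlift : ∀ e : Γ(F, U.1), ∃ e', j.app U.1 e' = G • e :=
    exists_inclTwist_eq F (∏ j, D j ^ μ j) U (hG ▸ Ideal.mem_span_singleton_self G)
  have hdown : ∀ e', ∃ e : Γ(F, U.1), j.app U.1 e' = G • e := fun e' => by
    obtain ⟨e, k', hk, he'⟩ := inclTwist_mem F (∏ j, D j ^ μ j) (QCoh.isQCoh_of_isFinLocFree hF) U hG e'
    exact ⟨e, by rw [he', ← hk]; exact inclTwist_tmul F (∏ j, D j ^ μ j) U.1 e k'⟩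
  refine ⟨fun e => ?_, fun e he => ?_⟩
  · obtain ⟨e₀, he₀⟩ := hlift e
    obtain ⟨u', w', hw⟩ := hsurj e₀
    obtain ⟨u, hu⟩ := hdown u'
    obtain ⟨w, hwd⟩ := hdown w'
    refine ⟨u, w, hGreg ?_⟩
    show G • (x • w) = G • (thetaF KF Fr l m u - e)
    rw [smul_comm G x w, ← hwd, smul_sub, ← hkey u u' hu, ← he₀, ← map_sub, ← hw]
    exact (j.app_smul x w').symm
  · obtain ⟨e', he'⟩ := hlift e
    obtain ⟨w, hw⟩ := he
    obtain ⟨w', hw'⟩ := hlift w
    obtain ⟨v', hv⟩ := hinj e' ⟨w', inclTwist_injective F (∏ j, D j ^ μ j) hF U hG hG0 <| by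
      show j.app U.1 (x • w') = j.app U.1 (ψ e')
      rw [Scheme.Modules.Hom.app_smul, hw', hkey e e' he', ← hw, LinearMap.lsmul_apply, smul_comm x G w]⟩
    obtain ⟨v, hvd⟩ := hdown v'
    refine ⟨v, hGreg ?_⟩
    show G • (x • v) = G • e
    rw [smul_comm G x v, ← hvd, ← he', ← hv]
    exact (j.app_smul x v').symm

end Groth.Agent.LogDRGeo45
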