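import Groth.Agent.LogDRGeo45.TopDegree
import Groth.Agent.LogDRGeo45.TermTensor
import Groth.Agent.LogDRGeo45.Dim
import Groth.Agent.LogDRGeo45.Shift

/-!
# Injectivity on the top logarithmic forms
-/

set_option autoImplicit false

universe u

open CategoryTheory CategoryTheory.Limits AlgebraicGeometry Opposite TopologicalSpace

noncomputable section

namespace Groth.Agent.LogDRGeo45

variable {X : Scheme.{u}} {k : Type u} [Field k] {f : X ⟶ Spec (CommRingCat.of k)} [QuasiSeparated f] [IsIntegral X]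
  [IsLocallyNoetherian X] {Ω' : X.Modules} {d : OmegaSh.Der f Ω'} {r : ℕ} {D : Fin r → X.IdealSheafData}
  {Λ : LogNCD.LogMod d D} {E : X.Modules} {nabla : Coh.toAb E ⟶ Coh.toAb (CohB1.tensorMod E Λ.L)}
  (K : ConnSh.Cx (LogNCD.der Λ) E nabla) (μ : Fin r → ℕ) (hd : OmegaSh.IsUniversal d) (hD : LogNCD.IsNCD D f)
  (hE : FlatMod.IsFinLocFree E)
  {nabla' : Coh.toAb (CohB1.tensorMod E (ClSub.idealMod (∏ i, D i ^ μ i))) ⟶
    Coh.toAb (CohB1.tensorMod (CohB1.tensorMod E (ClSub.idealMod (∏ i, D i ^ μ i))) Λ.L)}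
  (K' : ConnSh.Cx (LogNCD.der Λ) (CohB1.tensorMod E (ClSub.idealMod (∏ i, D i ^ μ i))) nabla')
  (ht : LogNCD.IsTwist Λ E nabla (∏ i, D i ^ μ i) nabla')

theorem kzHom_f (p : ℕ) :
    (kzHom K μ hd hD hE K' ht).f (p : ℤ) ≫ (E1Deg.KZXIso K p).hom =
      (E1Deg.KZXIso K' p).hom ≫ (SheafOfModules.toSheaf X.ringCatSheaf).map
        ((exists_termMap K' K (LogNCD.inclTwist E (∏ i, D i ^ μ i))).choose p) := by
  rw [kzHom, HomologicalComplex.extendMap_f _ ComplexShape.embeddingUpNat (i := p) (i' := (p : ℤ)) rfl]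
  simp only [E1Deg.KZXIso, Iso.trans_hom, Category.assoc]
  erw [Iso.inv_hom_id_assoc]
  show _ ≫ ((K'.iso p).hom ≫ _ ≫ (K.iso p).inv) ≫ (K.iso p).hom = _
  simp only [Category.assoc, Iso.inv_hom_id, Category.comp_id]

theorem isZero_KZ {E₁ : X.Modules} {nabla₁ : Coh.toAb E₁ ⟶ Coh.toAb (CohB1.tensorMod E₁ Λ.L)}
    (K₁ : ConnSh.Cx (LogNCD.der Λ) E₁ nabla₁) [Smooth f] (hd : OmegaSh.IsUniversal d) (hD : LogNCD.IsNCD D f)
    (n : ℕ) (hn : topologicalKrullDim ↥X ≤ n) (m : ℤ) (hm : (n : ℤ) < m) : IsZero (K₁.KZ.X m) := by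
  obtain ⟨p, rfl⟩ := Int.eq_ofNat_of_zero_le (show 0 ≤ m by omega)
  exact IsZero.of_iso (isZero_KX K₁ hd hD n p hn (by omega))
    (HomologicalComplex.extendXIso K₁.K ComplexShape.embeddingUpNat (i := p) rfl)

variable [HasDerivedCategory.{u} (Sheaf (Opens.grothendieckTopology X) AddCommGrpCat.{u})] [Smooth f]

include K K' hd hD hE ht in
/-- Injectivity of `H^b(E(-D') ⊗ Ω^n(log D)) → H^b(E ⊗ Ω^n(log D))`. -/
theorem injective_H_top (hθ : ThetaBij K μ) (hE1 : E1Deg.HyperDegenerates K'.KZ (⊤ : X.Opens))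
    (n : ℕ) (hn : topologicalKrullDim ↥X ≤ n) {Ln : X.Modules} (hLn : ExtPow.IsExtPow n Λ.L Ln) (b : ℕ) :
    Function.Injective (Sheaf.H.map ((SheafOfModules.toSheaf X.ringCatSheaf).map
      (KoszTw.tensorMap (LogNCD.inclTwist E (∏ i, D i ^ μ i)) (𝟙 Ln))) b) := by
  have hqL := isQCoh_L (Λ := Λ) hd hD
  have hqLn : Coh.IsQCoh Ln := DRHyp.isQCoh_of_isExtPow hqL n hLn
  have hqE := QCoh.isQCoh_of_isFinLocFree hE
  have hqE' : Coh.IsQCoh (CohB1.tensorMod E (ClSub.idealMod (∏ i, D i ^ μ i))) :=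
    KFlatLib.isQCoh_tensor hqE (SurfInt.isCoh_idealMod _).1
  obtain ⟨φ, hφ⟩ := hLn
  obtain ⟨ψ', hψ'⟩ := exists_termTensor K' n φ hφ
  obtain ⟨ψ, hψ⟩ := exists_termTensor K n φ hφ
  have hi' : IsIso ψ' := isIso_termTensor K' n hqE' hqLn φ ψ' hψ'
  have hi : IsIso ψ := isIso_termTensor K n hqE hqLn φ ψ hψ
  let iso' : K'.KZ.X (n : ℤ) ≅ Coh.toAb (CohB1.tensorMod _ Ln) :=
    E1Deg.KZXIso K' n ≪≫ (SheafOfModules.toSheaf X.ringCatSheaf).mapIso (@asIso _ _ _ _ ψ' hi')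
  let iso : K.KZ.X (n : ℤ) ≅ Coh.toAb (CohB1.tensorMod _ Ln) :=
    E1Deg.KZXIso K n ≪≫ (SheafOfModules.toSheaf X.ringCatSheaf).mapIso (@asIso _ _ _ _ ψ hi)
  have hsq : (kzHom K μ hd hD hE K' ht).f (n : ℤ) ≫ iso.hom = iso'.hom ≫
      (SheafOfModules.toSheaf X.ringCatSheaf).map (KoszTw.tensorMap (LogNCD.inclTwist E (∏ i, D i ^ μ i)) (𝟙 Ln)) := by
    simp only [iso, iso', Iso.trans_hom, Category.assoc]
    refine (Category.assoc _ _ _).symm.trans ((congrArg (· ≫ _) (kzHom_f K μ hd hD hE K' ht n)).trans ?_)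
    refine (Category.assoc _ _ _).trans (congrArg (_ ≫ ·) ?_)
    exact ((SheafOfModules.toSheaf X.ringCatSheaf).map_comp _ _).symm.trans
      ((congrArg (SheafOfModules.toSheaf X.ringCatSheaf).map
        (termTensor_natural K' K _ n φ ψ' ψ hψ' hψ)).trans ((SheafOfModules.toSheaf X.ringCatSheaf).map_comp _ _))
  haveI : QuasiIso (kzHom K μ hd hD hE K' ht) := quasiIso_kzHom K μ hd hD hE K' ht hθ
  refine (injective_iff_map_eq_zero _).2 fun x hx => ?_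
  obtain ⟨y, rfl⟩ := (DRHyp.extTopEquiv _ b).surjective x
  have hy := eq_zero_of_comp_mk₀_eq_zero.{u} (CohCx.freeSheaf (Opens.grothendieckTopology X) (⊤ : X.Opens))
    (kzHom K μ hd hD hE K' ht) n (isZero_KZ K' hd hD n hn) (isZero_KZ K hd hD n hn) iso' iso _ hsq hE1 b y
    ((DRHyp.extTopEquiv _ b).injective (by rw [DRHyp.extTopEquiv_comp, hx, map_zero]))
  rw [hy, map_zero]

end Groth.Agent.LogDRGeo45
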