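import Groth.Agent.LogDRGeo45.Forms

/-!
# The coordinate description of a logarithmic de Rham complex on a frame
-/

set_option autoImplicit false

universe u

open CategoryTheory AlgebraicGeometry Opposite TopologicalSpace TensorProduct
open Groth.Agent.LogDR45

noncomputable section

namespace Groth.Agent.LogDRGeo45

variable {X : Scheme.{u}} {k : Type u} [Field k] {f : X ⟶ Spec (CommRingCat.of k)} [QuasiSeparated f]
  {Ω' : X.Modules} {d : OmegaSh.Der f Ω'} {r : ℕ} {D : Fin r → X.IdealSheafData} {Λ : LogNCD.LogMod d D}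
  {E : X.Modules} {nabla : Coh.toAb E ⟶ Coh.toAb (CohB1.tensorMod E Λ.L)}

/-- Restriction of an element of an ideal. -/
theorem res_mem_ideal (I : X.IdealSheafData) {U V : X.affineOpens} (h : V.1 ≤ U.1) {g : Γ(X, U.1)}
    (hg : g ∈ I.ideal U) : X.presheaf.map (homOfLE h).op g ∈ I.ideal V := by
  obtain ⟨m, rfl⟩ := OmegaLib.exists_of_mem I U g hg
  rw [← OmegaLib.idealSect_map]
  exact OmegaLib.idealSect_mem I V _

/-- The Leibniz rule holds away from the divisor. -/
theorem isLeib_off (hd : OmegaSh.IsUniversal d) (K : ConnSh.Cx (LogNCD.der Λ) E nabla) (V : X.affineOpens)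
    (h : ∀ i, (D i).ideal V = ⊤) : IsLeib (dSec (LogNCD.der Λ) V.1) (fun p => dF K p V) :=
  isLeib_of_units (bas := fun b : Γ(X, V.1) => dlog Λ V.1 b) (c := fun _ => 1) (isPFRule K V)
    (dSec_mul V.1) (span_dlog hd V h) (fun _ => isUnit_one) fun b => ⟨b, (one_smul _ _).trans rfl⟩

variable {U : X.affineOpens} (F : LogFrame Λ U)

/-- The product of the equations. -/
def LogFrame.total : Γ(X, U.1) := ∏ i, F.eqn i

/-- The complement of the divisor in a frame. -/
def LogFrame.away : X.affineOpens := ⟨X.basicOpen F.total, U.2.basicOpen F.total⟩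

theorem LogFrame.away_le : F.away.1 ≤ U.1 := X.basicOpen_le _

theorem LogFrame.isUnit_eqn (i : Fin r) :
    IsUnit (X.presheaf.map (homOfLE F.away_le).op (F.eqn i)) := by
  classical
  have h : IsUnit (X.presheaf.map (homOfLE F.away_le).op F.total) :=
    RingedSpace.isUnit_res_basicOpen _ F.total
  rw [LogFrame.total, map_prod] at h
  exact (IsUnit.prod_iff.1 h) i (Finset.mem_univ i)

theorem LogFrame.ideal_away (i : Fin r) : (D i).ideal F.away = ⊤ :=
  Ideal.eq_top_of_isUnit_mem _
    (res_mem_ideal (D i) F.away_le (by rw [F.ideal_eq i]; exact Ideal.mem_span_singleton_self _))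
    (F.isUnit_eqn i)

theorem LogFrame.eqn_ne_zero [IsIntegral X] (hU : U.1 ≠ ⊥) (i : Fin r) : F.eqn i ≠ 0 := by
  haveI : Nonempty U.1 := by
    by_contra h
    rw [not_nonempty_iff] at h
    exact hU (by ext y; exact ⟨fun hy => (h.false ⟨y, hy⟩).elim, fun hy => hy.elim⟩)
  rw [LogFrame.eqn]
  match h : F.comp i with
  | none => rw [Option.elim_none]; exact one_ne_zero
  | some l => rw [Option.elim_some]; exact F.ne_zero i l h

theorem LogFrame.total_ne_zero [IsIntegral X] (hU : U.1 ≠ ⊥) : F.total ≠ 0 := by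
  haveI : Nonempty U.1 := by
    by_contra h
    rw [not_nonempty_iff] at h
    exact hU (by ext y; exact ⟨fun hy => (h.false ⟨y, hy⟩).elim, fun hy => hy.elim⟩)
  exact Finset.prod_ne_zero_iff.2 fun i _ => F.eqn_ne_zero hU i

variable [IsIntegral X] (hd : OmegaSh.IsUniversal d) (hU : U.1 ≠ ⊥) (hE : FlatMod.IsFinLocFree E)
  (K : ConnSh.Cx (LogNCD.der Λ) E nabla)

include hU hE in
theorem LogFrame.resF_injective (p : ℕ) : Function.Injective (resF K F.away_le p) := by
  obtain ⟨bas', hbas'⟩ := F.exists_res F.away F.away_le (basicOpen_ne_bot (F.total_ne_zero hU))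
  exact (isRes K F.away_le).injective F.bas bas' hbas' (res_basicOpen_injective hE U.2 (F.total_ne_zero hU))
    (map_zero _) p

include F hd hU hE in
theorem LogFrame.isLeib : IsLeib (dSec (LogNCD.der Λ) U.1) (fun p => dF K p U) :=
  (isRes K F.away_le).isLeib (F.resF_injective hU hE K) (fun _ z => resF_dF K F.away_le z)
    (rs_dSec F.away_le) (isLeib_off hd K F.away F.ideal_away)

include hU hE in
theorem LogFrame.isGenRule : IsGenRule (nabF K U) (fun p => dF K p U) F.bas := by
  classical
  refine (isRes K F.away_le).isGenRule (F.resF_injective hU hE K) (fun _ z => resF_dF K F.away_le z)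
    (nab' := nabF K F.away) (fun e => resF_nabF K F.away_le e) ?_
  obtain ⟨bas', hbas'⟩ := F.exists_res F.away F.away_le (basicOpen_ne_bot (F.total_ne_zero hU))
  let c : Fin F.n → Γ(X, F.away.1) := fun l =>
    if ∃ i, F.comp i = some l then X.presheaf.map (homOfLE F.away_le).op (F.v l) else 1
  have hspan : Submodule.span Γ(X, F.away.1) (Set.range (rs Λ.L F.away_le ∘ F.bas)) = ⊤ := by
    rw [show rs Λ.L F.away_le ∘ F.bas = ⇑bas' from funext fun l => (hbas' l).symm]
    exact bas'.span_eq
  refine isGenRule_of_units (δ := dSec (LogNCD.der Λ) F.away.1) (c := c) (isPFRule K F.away) (dSec_mul _) hspan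
    (fun l => ?_) (fun l => ?_) (fun l => ?_)
  · simp only [c]
    split_ifs with h
    · obtain ⟨i, hi⟩ := h
      have := F.isUnit_eqn i
      rwa [LogFrame.eqn, hi, Option.elim_some] at this
    · exact isUnit_one
  · refine ⟨X.presheaf.map (homOfLE F.away_le).op (F.v l), ?_⟩
    rw [← rs_dSec F.away_le]
    simp only [c]
    split_ifs with h
    · obtain ⟨i, hi⟩ := h
      rw [show dSec (LogNCD.der Λ) U.1 (F.v l) = F.v l • F.bas l from F.δ_pole i l hi]
      exact (Scheme.Modules.map_smul _ _ _ _).symm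
    · rw [show dSec (LogNCD.der Λ) U.1 (F.v l) = F.bas l from F.δ_other l fun i hi => h ⟨i, hi⟩, one_smul]
      rfl
  · simp only [c]
    split_ifs with h
    · obtain ⟨i, hi⟩ := h
      refine ⟨X.presheaf.map (homOfLE F.away_le).op (F.v l), ?_⟩
      rw [← rs_dSec F.away_le, show dSec (LogNCD.der Λ) U.1 (F.v l) = F.v l • F.bas l from F.δ_pole i l hi]
      exact Scheme.Modules.map_smul _ _ _ _
    · exact ⟨0, by rw [zero_smul]; exact dlog_one Λ _⟩

/-- The coordinates with poles. -/
def LogFrame.poles : Finset (Fin F.n) := by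
  classical exact Finset.univ.filter fun l => ∃ i, F.comp i = some l

theorem LogFrame.mem_poles (l : Fin F.n) : l ∈ F.poles ↔ ∃ i, F.comp i = some l := by
  simp [LogFrame.poles]

/-- The coordinate description of the complex on a frame. -/
def LogFrame.chart : Chart Γ(X, U.1) Γ(Λ.L, U.1) Γ(E, U.1) (Fin F.n) where
  δ := dSec (LogNCD.der Λ) U.1
  bas := F.bas
  J := F.poles
  x := F.v
  nab := nabF K U
  d p := dF K p U
  δ_mul := dSec_mul U.1
  δ_x l hl := by
    obtain ⟨i, hi⟩ := (F.mem_poles l).1 hl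
    exact F.δ_pole i l hi
  regular l hl := by
    obtain ⟨i, hi⟩ := (F.mem_poles l).1 hl
    exact isSMulRegular_sections hE U.2 (F.ne_zero i l hi)
  res_δ l hl g := by
    obtain ⟨i, hi⟩ := (F.mem_poles l).1 hl
    rw [← Ideal.mem_span_singleton, ← F.ideal_some i l hi, ← smul_oneOn_eq_zero_iff]
    have h := res_dlog Λ i U.1 g
    rw [← F.bas.sum_repr (dlog Λ U.1 g), map_sum, Finset.sum_eq_single l] at h
    · rw [Scheme.Modules.Hom.app_smul, F.res_bas, if_pos hi] at h
      exact h
    · intro m _ hm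
      rw [Scheme.Modules.Hom.app_smul, F.res_bas, if_neg, smul_zero]
      rw [hi]
      exact fun e => hm (Option.some.inj e).symm
    · exact fun h => absurd (Finset.mem_univ l) h
  d_d p z := dF_dF K p U z
  leib := F.isLeib hd hU hE K
  gen := F.isGenRule hU hE K

end Groth.Agent.LogDRGeo45
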