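import Groth.Agent.BigSiteLib.FppfDesc.LocExact
import Mathlib.Algebra.Homology.Refinements
import Mathlib.Algebra.Homology.QuasiIso
import Mathlib.CategoryTheory.Sites.SheafCohomology.Basic
import Groth.Prelude.Def_CohCx

/-!
# A monomorphism of complexes of sheaves whose cokernel is locally exact is a quasi-isomorphism
-/

set_option autoImplicit false

universe u

open CategoryTheory CategoryTheory.Limits Opposite TopologicalSpace

namespace Groth.Agent.LogDRGeo45

variable {T : Type u} [TopologicalSpace T]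

variable (T) in
/-- Abelian sheaves on a space. -/
abbrev AbT := Sheaf (Opens.grothendieckTopology T) AddCommGrpCat.{u}

theorem exists_preimage {A B : (AbT T)} (φ : A ⟶ B) [Mono φ] {U : Opens T} (y : B.obj.obj (op U))
    (hy : (cokernel.π φ).hom.app (op U) y = 0) : ∃ x, φ.hom.app (op U) x = y := by
  let Φ : (AbT T) ⥤ AddCommGrpCat.{u} := sheafToPresheaf _ _ ⋙ (evaluation _ _).obj (op U)
  haveI : Φ.PreservesZeroMorphisms := { map_zero := fun _ _ => rfl }
  let S := ShortComplex.mk φ (cokernel.π φ) (cokernel.condition φ)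
  haveI : Mono S.f := ‹Mono φ›
  have hS : S.Exact := S.exact_of_g_is_cokernel (cokernelIsCokernel φ)
  have h : (S.map Φ).Exact := ShortComplex.exact_of_f_is_kernel _ (KernelFork.mapIsLimit _ hS.fIsKernel Φ)
  exact (ShortComplex.ab_exact_iff _).1 h y hy

variable {K L : CochainComplex (AbT T) ℕ} (φ : K ⟶ L)

/-- Degree zero: sections whose differential comes from `K` come from `K` locally. -/
def LiftsZero : Prop :=
  ∀ (U : Opens T) (y : (L.X 0).obj.obj (op U)), (∃ x, (φ.f 1).hom.app (op U) x = (L.d 0 1).hom.app (op U) y) →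
    ∀ t ∈ U, ∃ (V : Opens T) (i : V ≤ U), t ∈ V ∧
      ∃ k, (φ.f 0).hom.app (op V) k = (L.X 0).obj.map (homOfLE i).op y

/-- Positive degrees: up to a differential. -/
def LiftsSucc : Prop :=
  ∀ (n : ℕ) (U : Opens T) (y : (L.X (n + 1)).obj.obj (op U)),
    (∃ x, (φ.f (n + 2)).hom.app (op U) x = (L.d (n + 1) (n + 2)).hom.app (op U) y) →
    ∀ t ∈ U, ∃ (V : Opens T) (i : V ≤ U), t ∈ V ∧
      ∃ k w, (φ.f (n + 1)).hom.app (op V) k + (L.d n (n + 1)).hom.app (op V) w =
        (L.X (n + 1)).obj.map (homOfLE i).op y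

variable [∀ n, Mono (φ.f n)]

theorem refine_zero (h : LiftsZero φ) {B : (AbT T)} (y : B ⟶ L.X 0) (x : B ⟶ K.X 1) (hyx : y ≫ L.d 0 1 = x ≫ φ.f 1) :
    ∃ (B' : (AbT T)) (π : B' ⟶ B) (_ : Epi π) (k : B' ⟶ K.X 0), π ≫ y = k ≫ φ.f 0 := by
  let S := ShortComplex.mk (φ.f 0) (L.d 0 1 ≫ cokernel.π (φ.f 1))
    (by rw [← Category.assoc, φ.comm, Category.assoc, cokernel.condition, comp_zero])
  have hS : S.Exact := BigSiteLib.FppfDesc.exact_of_locally_boundary fun U s hs => by
    intro t ht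
    obtain ⟨V, i, htV, k, hk⟩ := h U s (exists_preimage (φ.f 1) _ hs) t ht
    exact ⟨V, homOfLE i, ⟨k, hk⟩, htV⟩
  obtain ⟨B', π, hπ, k, hk⟩ := S.exact_iff_exact_up_to_refinements.1 hS y
    (by show y ≫ L.d 0 1 ≫ _ = 0; rw [reassoc_of% hyx, cokernel.condition, comp_zero])
  exact ⟨B', π, hπ, k, hk⟩

theorem refine_succ (h : LiftsSucc φ) (n : ℕ) {B : (AbT T)} (y : B ⟶ L.X (n + 1)) (x : B ⟶ K.X (n + 2))
    (hyx : y ≫ L.d (n + 1) (n + 2) = x ≫ φ.f (n + 2)) :
    ∃ (B' : (AbT T)) (π : B' ⟶ B) (_ : Epi π) (k : B' ⟶ K.X (n + 1)) (w : B' ⟶ L.X n),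
      π ≫ y = k ≫ φ.f (n + 1) + w ≫ L.d n (n + 1) := by
  let S := ShortComplex.mk (biprod.desc (φ.f (n + 1)) (L.d n (n + 1)))
    (L.d (n + 1) (n + 2) ≫ cokernel.π (φ.f (n + 2)))
    (by
      apply biprod.hom_ext'
      · rw [biprod.inl_desc_assoc, ← Category.assoc, φ.comm, Category.assoc, cokernel.condition, comp_zero, comp_zero]
      · rw [biprod.inr_desc_assoc, L.d_comp_d_assoc, zero_comp, comp_zero])
  have hS : S.Exact := BigSiteLib.FppfDesc.exact_of_locally_boundary fun U s hs => by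
    intro t ht
    obtain ⟨V, i, htV, k, w, hk⟩ := h n U s (exists_preimage (φ.f (n + 2)) _ hs) t ht
    refine ⟨V, homOfLE i, ⟨(biprod.inl : _ ⟶ K.X (n + 1) ⊞ L.X n).hom.app (op V) k +
      (biprod.inr : _ ⟶ K.X (n + 1) ⊞ L.X n).hom.app (op V) w, ?_⟩, htV⟩
    show S.f.hom.app (op V) _ = _
    rw [map_add]
    refine Eq.trans ?_ hk
    congr 1
    · exact congr(($(biprod.inl_desc (φ.f (n + 1)) (L.d n (n + 1)))).hom.app (op V) k)
    · exact congr(($(biprod.inr_desc (φ.f (n + 1)) (L.d n (n + 1)))).hom.app (op V) w)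
  obtain ⟨B', π, hπ, z, hz⟩ := S.exact_iff_exact_up_to_refinements.1 hS y
    (by show y ≫ L.d (n + 1) (n + 2) ≫ _ = 0; rw [reassoc_of% hyx, cokernel.condition, comp_zero])
  refine ⟨B', π, hπ, z ≫ biprod.fst, z ≫ biprod.snd, hz.trans ?_⟩
  show z ≫ biprod.desc _ _ = _
  rw [biprod.desc_eq, Preadditive.comp_add, Category.assoc, Category.assoc]

/-- The criterion. -/
theorem quasiIso_of_lifts (h0 : LiftsZero φ) (h1 : LiftsSucc φ) : QuasiIso φ := by
  refine ⟨fun n => ?_⟩
  rw [quasiIsoAt_iff_isIso_homologyMap]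
  rcases n with _ | n
  · have hm : Mono (HomologicalComplex.homologyMap φ 0) := by
      rw [HomologicalComplex.mono_homologyMap_iff_up_to_refinements φ 0 0 1 (by simp) (by simp)]
      intro B x hx y hy
      refine ⟨B, 𝟙 B, inferInstance, 0, ?_⟩
      rw [L.shape 0 0 (by simp), comp_zero] at hy
      rw [Category.id_comp, zero_comp, ← cancel_mono (φ.f 0), hy, zero_comp]
    have he : Epi (HomologicalComplex.homologyMap φ 0) := by
      rw [HomologicalComplex.epi_homologyMap_iff_up_to_refinements φ 0 0 1 (by simp) (by simp)]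
      intro B z hz
      obtain ⟨B', π, hπ, k, hk⟩ := refine_zero φ h0 z 0 (by rw [hz, zero_comp])
      refine ⟨B', π, hπ, k, ?_, 0, by rw [zero_comp, add_zero, hk]⟩
      rw [← cancel_mono (φ.f 1), zero_comp, Category.assoc, ← φ.comm, ← reassoc_of% hk, hz, comp_zero]
    exact isIso_of_mono_of_epi _
  · have hm : Mono (HomologicalComplex.homologyMap φ (n + 1)) := by
      rw [HomologicalComplex.mono_homologyMap_iff_up_to_refinements φ n (n + 1) (n + 2) (by simp) (by simp)]
      intro B x hx y hy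
      rcases n with _ | m
      · obtain ⟨B', π, hπ, k, hk⟩ := refine_zero φ h0 y x hy.symm
        refine ⟨B', π, hπ, k, ?_⟩
        rw [← cancel_mono (φ.f 1), Category.assoc, hy, reassoc_of% hk, Category.assoc, φ.comm]
      · obtain ⟨B', π, hπ, k, w, hk⟩ := refine_succ φ h1 m y x hy.symm
        refine ⟨B', π, hπ, k, ?_⟩
        rw [← cancel_mono (φ.f (m + 2)), Category.assoc, hy, reassoc_of% hk]
        simp
    have he : Epi (HomologicalComplex.homologyMap φ (n + 1)) := by
      rw [HomologicalComplex.epi_homologyMap_iff_up_to_refinements φ n (n + 1) (n + 2) (by simp) (by simp)]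
      intro B z hz
      obtain ⟨B', π, hπ, k, w, hk⟩ := refine_succ φ h1 n z 0 (by rw [hz, zero_comp])
      refine ⟨B', π, hπ, k, ?_, w, hk⟩
      rw [← cancel_mono (φ.f (n + 2)), zero_comp, Category.assoc, ← φ.comm]
      have e : π ≫ z ≫ L.d (n + 1) (n + 2) = k ≫ φ.f (n + 1) ≫ L.d (n + 1) (n + 2) := by
        rw [reassoc_of% hk]
        simp
      rw [← e, hz, comp_zero]
    exact isIso_of_mono_of_epi _

end Groth.Agent.LogDRGeo45
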