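import Groth.Agent.LogDRGeo45.Image
import Groth.Agent.LogDRGeo45.QisCrit
import Mathlib.RingTheory.Flat.Basic
import Mathlib.Algebra.Homology.Embedding.ExtendHomology

/-!
# The twisted logarithmic de Rham complex is quasi-isomorphic to the original one
-/

set_option autoImplicit false

universe u

open CategoryTheory CategoryTheory.Limits AlgebraicGeometry Opposite TopologicalSpace TensorProduct
open Groth.Agent.LogDR45

noncomputable section

namespace Groth.Agent.LogDRGeo45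

variable {X : Scheme.{u}} {k : Type u} [Field k] {f : X ⟶ Spec (CommRingCat.of k)} [QuasiSeparated f] [IsIntegral X]
  [IsLocallyNoetherian X] {Ω' : X.Modules} {d : OmegaSh.Der f Ω'} {r : ℕ} {D : Fin r → X.IdealSheafData}
  {Λ : LogNCD.LogMod d D} {E : X.Modules} {nabla : Coh.toAb E ⟶ Coh.toAb (CohB1.tensorMod E Λ.L)}
  (K : ConnSh.Cx (LogNCD.der Λ) E nabla)

/-- The residue shifted by `m`, on the coordinates of a frame. -/
def thetaF {U : X.affineOpens} (F : LogFrame Λ U) (l : Fin F.n) (m : ℕ) (e : Γ(E, U.1)) : Γ(E, U.1) :=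
  evalR (F.bas.coord l) (nabF K U e) + m • e

/-- The shifted residues are bijective modulo the equations. -/
def ThetaBij (μ : Fin r → ℕ) : Prop :=
  ∀ (U : X.affineOpens) (F : LogFrame Λ U), U.1 ≠ ⊥ → ∀ (i : Fin r) (l : Fin F.n), F.comp i = some l →
    ∀ m < μ i, (∀ e, ∃ e', thetaF K F l m e' - e ∈ Chart.mult (F.v l) Γ(E, U.1)) ∧
      ∀ e, thetaF K F l m e ∈ Chart.mult (F.v l) Γ(E, U.1) → e ∈ Chart.mult (F.v l) Γ(E, U.1)

variable (μ : Fin r → ℕ) (hd : OmegaSh.IsUniversal d) (hD : LogNCD.IsNCD D f) (hE : FlatMod.IsFinLocFree E)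
  {nabla' : Coh.toAb (CohB1.tensorMod E (ClSub.idealMod (∏ i, D i ^ μ i))) ⟶
    Coh.toAb (CohB1.tensorMod (CohB1.tensorMod E (ClSub.idealMod (∏ i, D i ^ μ i))) Λ.L)}
  (K' : ConnSh.Cx (LogNCD.der Λ) (CohB1.tensorMod E (ClSub.idealMod (∏ i, D i ^ μ i))) nabla')
  (ht : LogNCD.IsTwist Λ E nabla (∏ i, D i ^ μ i) nabla')

local notation "incl" => LogNCD.inclTwist E (∏ i, D i ^ μ i)

include hE in
theorem mapF_injective {U : X.affineOpens} (hne : U.1 ≠ ⊥) (hU : IsGood Λ U) (p : ℕ) :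
    Function.Injective (mapF (Ω' := Λ.L) incl p U.1) := by
  haveI : Nonempty U.1 := by
    by_contra h
    rw [not_nonempty_iff] at h
    exact hne (by ext y; exact ⟨fun hy => (h.false ⟨y, hy⟩).elim, fun hy => hy.elim⟩)
  rcases hU with hU | ⟨-, ⟨F⟩⟩
  · have hG := ideal_twist_off D μ U hU
    refine (map_injective_of_bijective (secLin incl U.1) ⟨inclTwist_injective E _ hE U hG one_ne_zero,
      fun e => ?_⟩).1
    obtain ⟨z, hz⟩ := exists_inclTwist_eq E _ U (hG ▸ Ideal.mem_span_singleton_self (1 : Γ(X, U.1))) e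
    exact ⟨z, hz.trans (one_smul _ e)⟩
  · haveI : Module.Free Γ(X, U.1) ↥(⋀[Γ(X, U.1)]^p Γ(Λ.L, U.1)) := Module.Free.of_basis (F.bas.exteriorPower p)
    refine Module.Flat.rTensor_preserves_injective_linearMap (secLin incl U.1)
      (inclTwist_injective E _ hE U (F.ideal_twist μ) (Finset.prod_ne_zero_iff.2 fun l hl => pow_ne_zero _ ?_))
    obtain ⟨i, hi⟩ := (F.mem_poles l).1 hl
    exact F.ne_zero i l hi

include hd hE in
/-- The lifting on sections. -/
theorem lifts (hθ : ThetaBij K μ) {U : X.affineOpens} (hU : IsGood Λ U) :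
    (∀ v : Fm Λ.L E 0 U.1, dF K 0 U v ∈ Set.range (mapF incl 1 U.1) → v ∈ Set.range (mapF incl 0 U.1)) ∧
    ∀ (p : ℕ) (v : Fm Λ.L E (p + 1) U.1), dF K (p + 1) U v ∈ Set.range (mapF incl (p + 2) U.1) →
      ∃ w, v - dF K p U w ∈ Set.range (mapF incl (p + 1) U.1) := by
  rcases hU with hU | ⟨hne, ⟨F⟩⟩
  · have hG := ideal_twist_off D μ U hU
    have htop : ∀ (p : ℕ) (z : Fm Λ.L E p U.1), z ∈ Set.range (mapF incl p U.1) := fun p z =>
      (mem_range_mapF_iff hE _ hG p z).2 ⟨z, one_smul _ z⟩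
    exact ⟨fun v _ => htop 0 v, fun p v _ => ⟨0, htop (p + 1) _⟩⟩
  · have hG := F.ideal_twist μ
    simp only [mem_range_mapF_iff hE _ hG]
    let C := F.chart hd hne hE K
    have hC : ∀ j ∈ C.J, ∀ ν : Fin F.n → ℕ, ν j < F.mult μ j →
        (∀ e, ∃ e', C.theta ν j e' - e ∈ Chart.mult (C.x j) Γ(E, U.1)) ∧
          ∀ e, C.theta ν j e ∈ Chart.mult (C.x j) Γ(E, U.1) → e ∈ Chart.mult (C.x j) Γ(E, U.1) := by
      intro j hj ν hν
      obtain ⟨i, hi⟩ := (F.mem_poles j).1 hj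
      have heq : ∀ e, C.theta ν j e = thetaF K F j (ν j) e := fun e => C.theta_eq ν hj e
      rw [F.mult_eq μ hi] at hν
      simp only [heq]
      exact hθ U F hne i j hi (ν j) hν
    exact C.exists_primitive (F.mult μ) (fun j hj ν hν => (hC j hj ν hν).1) fun j hj ν hν => (hC j hj ν hν).2

/-- The map of complexes. -/
def cxHom : K'.K ⟶ K.K where
  f p := cxMapF K' K incl p
  comm' p q h := by
    obtain rfl : p + 1 = q := h
    exact cxMapF_comm K' K incl hd ht hD hE p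

include hD hd in
theorem exists_good_ne {O : X.Opens} {x : X} (hx : x ∈ O) :
    ∃ U : X.affineOpens, x ∈ U.1 ∧ U.1 ≤ O ∧ U.1 ≠ ⊥ ∧ IsGood Λ U := by
  obtain ⟨U, hxU, hle, hg⟩ := exists_good Λ hd hD hx
  exact ⟨U, hxU, hle, fun e => by rw [e] at hxU; exact hxU.elim, hg⟩

theorem toF_res (p : ℕ) {O : X.Opens} (U : X.affineOpens) (y : (K.K.X p).obj.obj (op O)) (hle : U.1 ≤ O) :
    toF K (p + 1) U ((K.K.X (p + 1)).obj.map (homOfLE hle).op ((K.K.d p (p + 1)).hom.app (op O) y)) =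
      dF K p U (toF K p U ((K.K.X p).obj.map (homOfLE hle).op y)) := by
  show _ = toF K (p + 1) U ((K.K.d p (p + 1)).hom.app (op U.1) (ofF K p U (toF K p U _)))
  rw [ofF_toF]
  exact congrArg _ (ConcreteCategory.congr_hom ((K.K.d p (p + 1)).hom.naturality (homOfLE hle).op) y).symm

include hd hD in
theorem mono_cxHom (p : ℕ) : Mono ((cxHom K μ hd hD hE K' ht).f p) := by
  suffices h : ∀ O : X.Opens, Function.Injective ((cxMapF K' K incl p).hom.app (op O)) by
    haveI : ∀ O, Mono (((sheafToPresheaf _ _).map (cxMapF K' K incl p)).app O) := fun O =>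
      (AddCommGrpCat.mono_iff_injective _).2 (h O.unop)
    haveI : Mono ((sheafToPresheaf _ _).map (cxMapF K' K incl p)) := NatTrans.mono_of_mono_app _
    exact (sheafToPresheaf _ _).mono_of_mono_map (f := cxMapF K' K incl p) inferInstance
  intro O s t hst
  choose U hxU hUO hne hgood using fun x : O => exists_good_ne (Λ := Λ) hd hD x.2
  refine TopCat.Sheaf.eq_of_locally_eq' (F := K'.K.X p) (fun x => (U x).1) O
    (fun x => homOfLE (hUO x)) (fun y hy => Opens.mem_iSup.2 ⟨⟨y, hy⟩, hxU ⟨y, hy⟩⟩) _ _ fun x => ?_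
  have h := congrArg (fun z => toF K p (U x) ((K.K.X p).obj.map (homOfLE (hUO x)).op z)) hst
  dsimp only at h
  have hnat : ∀ z, (K.K.X p).obj.map (homOfLE (hUO x)).op ((cxMapF K' K incl p).hom.app (op O) z) =
      (cxMapF K' K incl p).hom.app (op (U x).1) ((K'.K.X p).obj.map (homOfLE (hUO x)).op z) := fun z =>
    (ConcreteCategory.congr_hom ((cxMapF K' K incl p).hom.naturality (homOfLE (hUO x)).op) z).symm
  rw [hnat, hnat, toF_cxMapF, toF_cxMapF] at h
  exact (Function.LeftInverse.injective (ofF_toF K' p (U x))) (mapF_injective μ hE (hne x) (hgood x) p h)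

theorem quasiIso_cxHom (hθ : ThetaBij K μ) : QuasiIso (cxHom K μ hd hD hE K' ht) := by
  haveI := mono_cxHom K μ hd hD hE K' ht
  have key : ∀ (p : ℕ) (U : X.affineOpens) (z : Fm Λ.L (CohB1.tensorMod E (ClSub.idealMod (∏ i, D i ^ μ i))) p U.1),
      toF K p U ((cxMapF K' K incl p).hom.app (op U.1) (ofF K' p U z)) = mapF incl p U.1 z := fun p U z => by
    rw [toF_cxMapF, toF_ofF]
  refine quasiIso_of_lifts _ (fun O y hy t ht' => ?_) (fun n O y hy t ht' => ?_)
  · obtain ⟨U, htU, hle, -, hg⟩ := exists_good_ne (Λ := Λ) hd hD ht'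
    obtain ⟨x, hx⟩ := hy
    have hr : dF K 0 U (toF K 0 U ((K.K.X 0).obj.map (homOfLE hle).op y)) ∈ Set.range (mapF incl 1 U.1) := by
      refine ⟨toF K' 1 U ((K'.K.X 1).obj.map (homOfLE hle).op x), ?_⟩
      rw [← toF_res, ← hx, ← toF_cxMapF]
      exact congrArg (toF K 1 U) (ConcreteCategory.congr_hom ((cxMapF K' K incl 1).hom.naturality (homOfLE hle).op) x)
    obtain ⟨z, hz⟩ := (lifts K μ hd hE hθ hg).1 _ hr
    refine ⟨U.1, hle, htU, ofF K' 0 U z, Function.LeftInverse.injective (ofF_toF K 0 U) ?_⟩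
    exact (key 0 U z).trans hz
  · obtain ⟨U, htU, hle, -, hg⟩ := exists_good_ne (Λ := Λ) hd hD ht'
    obtain ⟨x, hx⟩ := hy
    have hr : dF K (n + 1) U (toF K (n + 1) U ((K.K.X (n + 1)).obj.map (homOfLE hle).op y)) ∈
        Set.range (mapF incl (n + 2) U.1) := by
      refine ⟨toF K' (n + 2) U ((K'.K.X (n + 2)).obj.map (homOfLE hle).op x), ?_⟩
      rw [← toF_res, ← hx, ← toF_cxMapF]
      exact congrArg (toF K (n + 2) U)
        (ConcreteCategory.congr_hom ((cxMapF K' K incl (n + 2)).hom.naturality (homOfLE hle).op) x)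
    obtain ⟨w, z, hz⟩ := (lifts K μ hd hE hθ hg).2 n _ hr
    refine ⟨U.1, hle, htU, ofF K' (n + 1) U z, ofF K n U w, Function.LeftInverse.injective (ofF_toF K (n + 1) U) ?_⟩
    rw [map_add]
    refine (congrArg₂ (· + ·) ((key (n + 1) U z).trans hz) (rfl : _ = dF K n U w)).trans ?_
    exact sub_add_cancel _ _

/-- The map of the `ℤ`-indexed complexes. -/
def kzHom : K'.KZ ⟶ K.KZ :=
  HomologicalComplex.extendMap (cxHom K μ hd hD hE K' ht) ComplexShape.embeddingUpNat

theorem quasiIso_kzHom (hθ : ThetaBij K μ) : QuasiIso (kzHom K μ hd hD hE K' ht) := by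
  rw [kzHom, HomologicalComplex.quasiIso_extendMap_iff]
  exact quasiIso_cxHom K μ hd hD hE K' ht hθ

end Groth.Agent.LogDRGeo45
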