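import Groth.Agent.LogDRGeo45.Qis
import Groth.Agent.H23.PullPush
import Groth.Agent.KFlatLib.Perfect.Tensor

/-!
# Twisting by an inverse of an ideal, and the complement of the divisor
-/

set_option autoImplicit false

universe u

open CategoryTheory CategoryTheory.Limits AlgebraicGeometry Opposite TopologicalSpace TensorProduct
open Groth.Agent.LogDR45

noncomputable section

namespace Groth.Agent.LogDRGeo45

variable {X : Scheme.{u}}

theorem rs_app {A B : X.Modules} (φ : A ⟶ B) {O V : X.Opens} (h : V ≤ O) (a : Γ(A, O)) :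
    rs B h (φ.app O a) = φ.app V (rs A h a) :=
  (ConcreteCategory.congr_hom (φ.mapPresheaf.naturality (homOfLE h).op) a).symm

theorem rs_rs {A : X.Modules} {O V W : X.Opens} (h : V ≤ O) (h' : W ≤ V) (a : Γ(A, O)) :
    rs A h' (rs A h a) = rs A (h'.trans h) a := by
  rw [rs, rs, rs, ← ConcreteCategory.comp_apply, ← Functor.map_comp]
  rfl

/-- A morphism bijective on the affine opens below `O` is bijective over `O`. -/
theorem app_bijective_of_affines {A B : X.Modules} (φ : A ⟶ B) (O : X.Opens)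
    (h : ∀ V : X.affineOpens, V.1 ≤ O → Function.Bijective (φ.app V.1)) : Function.Bijective (φ.app O) := by
  choose V hpV hVO using fun p : O => exists_affine_nhd O p.2
  have hcov : O ≤ iSup fun p => (V p).1 := fun x hx => Opens.mem_iSup.2 ⟨⟨x, hx⟩, hpV ⟨x, hx⟩⟩
  refine ⟨fun a a' ha => TopCat.Sheaf.eq_of_locally_eq' (F := ⟨A.presheaf, A.isSheaf⟩) (fun p => (V p).1) O
    (fun p => homOfLE (hVO p)) hcov _ _ fun p => (h (V p) (hVO p)).1 ?_, fun b => ?_⟩
  · show φ.app (V p).1 (rs A (hVO p) a) = φ.app (V p).1 (rs A (hVO p) a')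
    rw [← rs_app, ← rs_app, ha]
  · choose a ha using fun p => (h (V p) (hVO p)).2 (rs B (hVO p) b)
    have hc : TopCat.Presheaf.IsCompatible A.presheaf (fun p => (V p).1) a := fun p q => by
      choose W hxW hW using fun x : ((V p).1 ⊓ (V q).1 : X.Opens) => exists_affine_nhd ((V p).1 ⊓ (V q).1) x.2
      refine TopCat.Sheaf.eq_of_locally_eq' (F := ⟨A.presheaf, A.isSheaf⟩) (fun x => (W x).1) _
        (fun x => homOfLE (hW x)) (fun x hx => Opens.mem_iSup.2 ⟨⟨x, hx⟩, hxW ⟨x, hx⟩⟩) _ _ fun x => ?_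
      refine (h (W x) (((hW x).trans inf_le_left).trans (hVO p))).1 ?_
      show φ.app (W x).1 (rs A (hW x) (rs A inf_le_left (a p))) = φ.app (W x).1 (rs A (hW x) (rs A inf_le_right (a q)))
      rw [← rs_app, ← rs_app, ← rs_app, ← rs_app, ha, ha, rs_rs, rs_rs, rs_rs, rs_rs]
    obtain ⟨z, hz, -⟩ := TopCat.Sheaf.existsUnique_gluing' (F := ⟨A.presheaf, A.isSheaf⟩) (fun p => (V p).1) O
      (fun p => homOfLE (hVO p)) hcov a hc
    refine ⟨z, TopCat.Sheaf.eq_of_locally_eq' (F := ⟨B.presheaf, B.isSheaf⟩) (fun p => (V p).1) O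
      (fun p => homOfLE (hVO p)) hcov _ _ fun p => ?_⟩
    show rs B (hVO p) (φ.app O z) = rs B (hVO p) b
    rw [rs_app]
    exact (congrArg _ (hz p)).trans (ha p)

variable {I : X.IdealSheafData} {M : X.Modules} (Φ : CohB1.tensorMod M (ClSub.idealMod I) ≅ Coh.structureModule X)

/-- The section of an inverse of an ideal corresponding to the inclusion of the ideal. -/
def unitSec : Coh.structureModule X ⟶ M := Φ.inv ≫ LogNCD.inclTwist M I

/-- The twist `N ⟶ N ⊗ M`. -/
def twistUp (N : X.Modules) : N ⟶ CohB1.tensorMod N M :=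
  (SecTwist.unitorR N).inv ≫ KoszTw.tensorMap (𝟙 N) (unitSec Φ)

theorem twistUp_app (N : X.Modules) (U : X.Opens) (y : Γ(N, U)) :
    (twistUp Φ N).app U y = SecTwist.tmul N M U y ((unitSec Φ).app U (OmegaSh.strSect X U 1)) := by
  have h1 : (SecTwist.unitorR N).inv.app U y =
      SecTwist.tmul N (Coh.structureModule X) U y (OmegaSh.strSect X U 1) := by
    have h0 : (SecTwist.unitorR N).hom.app U (SecTwist.tmul N (Coh.structureModule X) U y (OmegaSh.strSect X U 1)) = y :=
      (SecTwist.unitorR_tmul N U y 1).trans (one_smul _ _)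
    exact (congrArg ((SecTwist.unitorR N).inv.app U) h0.symm).trans
      congr(($((SecTwist.unitorR N).hom_inv_id)).app U _)
  show (KoszTw.tensorMap (𝟙 N) (unitSec Φ)).app U ((SecTwist.unitorR N).inv.app U y) = _
  rw [h1]
  exact KoszTw.tensorMap_tmul _ _ _ _ _

/-- Over an affine open on which the ideal is principal the inverse is free on one generator. -/
theorem exists_unitSec_gen [IsLocallyNoetherian X] (hM : Coh.IsQCoh M) (U : X.affineOpens) {G : Γ(X, U.1)}
    (hG : I.ideal U = Ideal.span {G}) (hreg : IsSMulRegular Γ(M, U.1) G) :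
    ∃ m₀ : Γ(M, U.1), (unitSec Φ).app U.1 (OmegaSh.strSect X U.1 1) = G • m₀ ∧
      Function.Bijective fun a : Γ(X, U.1) => a • m₀ := by
  let T := CohB1.tensorMod M (ClSub.idealMod I)
  let z : Γ(T, U.1) := Φ.inv.app U.1 (OmegaSh.strSect X U.1 1)
  obtain ⟨m₀, k, hk, hz⟩ := inclTwist_mem M I hM U hG z
  have hlin : ∀ a : Γ(X, U.1), SecTwist.tmul M (ClSub.idealMod I) U.1 (a • m₀) k = a • z := fun a => by
    refine Eq.trans ?_ (congrArg (a • ·) hz.symm)
    show QCoh.tmLin M (ClSub.idealMod I) U.1 ((a • m₀) ⊗ₜ k) = a • QCoh.tmLin M (ClSub.idealMod I) U.1 (m₀ ⊗ₜ k)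
    rw [← TensorProduct.smul_tmul', map_smul]
  have hinv : ∀ a : Γ(X, U.1), Φ.hom.app U.1 (a • z) = OmegaSh.strSect X U.1 a := fun a => by
    refine (Φ.hom.app_smul a z).trans ?_
    rw [show Φ.hom.app U.1 z = OmegaSh.strSect X U.1 1 from congr(($(Φ.inv_hom_id)).app U.1 _)]
    exact mul_one a
  refine ⟨m₀, ?_, fun a b hab => ?_, fun m => ?_⟩
  · show (LogNCD.inclTwist M I).app U.1 z = _
    rw [hz, inclTwist_tmul, hk]
  · have h2 : Φ.hom.app U.1 (a • z) = Φ.hom.app U.1 (b • z) := by rw [← hlin, ← hlin]; exact congrArg (fun m => Φ.hom.app U.1 (SecTwist.tmul M (ClSub.idealMod I) U.1 m k)) hab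
    rw [hinv, hinv] at h2
    exact h2
  · obtain ⟨a, ha⟩ : ∃ a : Γ(X, U.1), OmegaSh.strSect X U.1 a = Φ.hom.app U.1 (SecTwist.tmul M (ClSub.idealMod I) U.1 m k) :=
      ⟨_, rfl⟩
    refine ⟨a, hreg ?_⟩
    have h2 : a • z = SecTwist.tmul M (ClSub.idealMod I) U.1 m k :=
      (ConcreteCategory.bijective_of_isIso (Φ.hom.app U.1)).1 ((hinv a).trans ha)
    have h3 := congrArg ((LogNCD.inclTwist M I).app U.1) ((hlin a).trans h2)
    rw [inclTwist_tmul, inclTwist_tmul, hk] at h3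
    exact h3

/-- Over such an open `twistUp` is `G` times a bijection. -/
theorem exists_twistUp_equiv [IsLocallyNoetherian X] (hM : Coh.IsQCoh M) {N : X.Modules} (hN : Coh.IsQCoh N)
    (U : X.affineOpens) {G : Γ(X, U.1)} (hG : I.ideal U = Ideal.span {G}) (hreg : IsSMulRegular Γ(M, U.1) G) :
    ∃ χ : Γ(N, U.1) ≃ₗ[Γ(X, U.1)] Γ(CohB1.tensorMod N M, U.1), ∀ y, (twistUp Φ N).app U.1 y = G • χ y := by
  obtain ⟨m₀, hm₀, hb⟩ := exists_unitSec_gen Φ hM U hG hreg
  let e₀ : Γ(X, U.1) ≃ₗ[Γ(X, U.1)] Γ(M, U.1) :=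
    LinearEquiv.ofBijective (LinearMap.toSpanSingleton Γ(X, U.1) _ m₀) hb
  let e : Γ(N, U.1) ≃ₗ[Γ(X, U.1)] Γ(N, U.1) ⊗[Γ(X, U.1)] Γ(M, U.1) :=
    (TensorProduct.rid Γ(X, U.1) Γ(N, U.1)).symm.trans (TensorProduct.congr (LinearEquiv.refl _ _) e₀)
  refine ⟨e.trans (LinearEquiv.ofBijective (QCoh.tmLin N M U.1) (QCoh.bijective_tmLin hN hM U.2)), fun y => ?_⟩
  rw [twistUp_app, hm₀]
  show QCoh.tmLin N M U.1 (y ⊗ₜ (G • m₀)) = G • QCoh.tmLin N M U.1 (e y)
  rw [← map_smul]
  refine congrArg _ ?_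
  simp only [e, e₀, LinearEquiv.trans_apply, TensorProduct.rid_symm_apply, TensorProduct.congr_tmul,
    LinearEquiv.refl_apply]
  rw [TensorProduct.tmul_smul]
  exact congrArg (fun m => G • y ⊗ₜ[Γ(X, U.1)] m) (one_smul Γ(X, U.1) m₀).symm

variable {r : ℕ} (D : Fin r → X.IdealSheafData)

/-- The complement of the divisor. -/
def offD : X.Opens :=
  ⟨⋂ i, ((D i).support : Set X)ᶜ, isOpen_iInter_of_finite fun i => (D i).support.isClosed.isOpen_compl⟩

theorem mem_offD {x : X} : x ∈ offD D ↔ ∀ i, x ∉ (D i).support := by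
  show x ∈ ⋂ i, ((D i).support : Set X)ᶜ ↔ _
  simp

theorem ideal_eq_top_of_le_offD (U : X.affineOpens) (hU : U.1 ≤ offD D) (i : Fin r) : (D i).ideal U = ⊤ :=
  ideal_eq_top_of_disjoint _ U fun _ hy => (mem_offD D).1 (hU hy) i

theorem le_offD (U : X.affineOpens) (h : ∀ i, (D i).ideal U = ⊤) : U.1 ≤ offD D := fun y hy =>
  (mem_offD D).2 fun i hi => by
    have h1 := (Scheme.IdealSheafData.mem_support_iff_of_mem (U := U) hy).1 hi
    rw [h i] at h1
    exact (Scheme.mem_zeroLocus_iff _ _ _).1 h1 1 trivial ((X.basicOpen_of_isUnit isUnit_one).ge hy)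

variable {k : Type u} [Field k] {f : X ⟶ Spec (CommRingCat.of k)} [QuasiSeparated f] [IsIntegral X]
  {Ω' : X.Modules} {d : OmegaSh.Der f Ω'} {D}  {Λ : LogNCD.LogMod d D}

omit [IsIntegral X] in
theorem LogFrame.away_eq {U : X.affineOpens} (F : LogFrame Λ U) : F.away.1 = U.1 ⊓ offD D := by
  refine le_antisymm (le_inf F.away_le (le_offD D F.away F.ideal_away)) fun y hy => ?_
  classical
  show y ∈ X.basicOpen (∏ i, F.eqn i)
  refine Finset.prod_induction (fun i => F.eqn i) (fun g => y ∈ X.basicOpen g) (fun a b ha hb => ?_) ?_ fun i _ => ?_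
  · rw [Scheme.basicOpen_mul]; exact ⟨ha, hb⟩
  · exact (X.basicOpen_of_isUnit isUnit_one).ge hy.1
  · by_contra hn
    refine (mem_offD D).1 hy.2 i ((Scheme.IdealSheafData.mem_support_iff_of_mem (U := U) hy.1).2 ?_)
    rw [Scheme.mem_zeroLocus_iff]
    intro a ha hya
    rw [SetLike.mem_coe, F.ideal_eq i, Ideal.mem_span_singleton'] at ha
    obtain ⟨b, rfl⟩ := ha
    rw [Scheme.basicOpen_mul] at hya
    exact hn hya.2

variable (hd : OmegaSh.IsUniversal d) (hD : LogNCD.IsNCD D f)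

/-- A nonempty open and its trace on the complement: a good open meets it in a dense basic open. -/
theorem res_inf_offD_injective_good {U : X.affineOpens} (hU : IsGood Λ U) {N : X.Modules}
    (hN : FlatMod.IsFinLocFree N) : Function.Injective (rs N (inf_le_left : U.1 ⊓ offD D ≤ U.1)) := by
  rcases hU with hU | ⟨hne, ⟨F⟩⟩
  · intro a b hab
    have h := congrArg (rs N (le_inf le_rfl (le_offD D U hU))) hab
    rw [rs_rs, rs_rs] at h
    simpa [rs] using h
  · intro a b hab
    have h := congrArg (rs N F.away_eq.le) hab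
    rw [rs_rs, rs_rs] at h
    exact res_basicOpen_injective hN U.2 (F.total_ne_zero hne) h

include hd hD Λ in
/-- Sections of a locally free module are determined off the divisor. -/
theorem res_inf_offD_injective {N : X.Modules} (hN : FlatMod.IsFinLocFree N) (O : X.Opens) :
    Function.Injective (rs N (inf_le_left : O ⊓ offD D ≤ O)) := by
  intro a b hab
  choose U hxU hUO hgood using fun x : O => exists_good Λ hd hD x.2
  refine TopCat.Sheaf.eq_of_locally_eq' (F := ⟨N.presheaf, N.isSheaf⟩) (fun x => (U x).1) O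
    (fun x => homOfLE (hUO x)) (fun y hy => Opens.mem_iSup.2 ⟨⟨y, hy⟩, hxU ⟨y, hy⟩⟩) _ _ fun x => ?_
  apply res_inf_offD_injective_good (hgood x) hN
  have h := congrArg (rs N (inf_le_inf_right (offD D) (hUO x))) hab
  rw [rs_rs, rs_rs] at h
  show rs N inf_le_left (rs N (hUO x) a) = rs N inf_le_left (rs N (hUO x) b)
  rw [rs_rs, rs_rs]
  exact h

end Groth.Agent.LogDRGeo45
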