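import Groth.Agent.LogDRGeo45.EmbCx
import Groth.Agent.LogDRGeo45.TwistMap
import Groth.Agent.LogDRGeo45.Qis

/-!
# The subcomplex of forms vanishing on a divisor
-/

set_option autoImplicit false

universe u

open CategoryTheory CategoryTheory.Limits AlgebraicGeometry Opposite TopologicalSpace TensorProduct
open Groth.Agent.LogDR45

noncomputable section

namespace Groth.Agent.LogDRGeo45

variable {X : Scheme.{u}} {k : Type u} [Field k] {f : X ⟶ Spec (CommRingCat.of k)} [QuasiSeparated f] [IsIntegral X]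
  [IsLocallyNoetherian X] {Ω' : X.Modules} {d : OmegaSh.Der f Ω'} {r : ℕ} {D : Fin r → X.IdealSheafData}
  {Λ : LogNCD.LogMod d D} {E : X.Modules} {nabla : Coh.toAb E ⟶ Coh.toAb (CohB1.tensorMod E Λ.L)}

/-- The data for the subcomplex cut out by an effective divisor on `D`. -/
structure SubData (K : ConnSh.Cx (LogNCD.der Λ) E nabla) (μ : Fin r → ℕ) where
  hd : OmegaSh.IsUniversal d
  hD : LogNCD.IsNCD D f
  hE : FlatMod.IsFinLocFree E
  hT : ∀ p, FlatMod.IsFinLocFree (K.term p)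

namespace SubData

variable {K : ConnSh.Cx (LogNCD.der Λ) E nabla} {μ : Fin r → ℕ} (P : SubData K μ)

/-- The terms of the subcomplex. -/
def term (_P : SubData K μ) (p : ℕ) : X.Modules :=
  CohB1.tensorMod (K.term p) (ClSub.idealMod (∏ i, D i ^ μ i))

/-- The inclusion of a term. -/
def incl (p : ℕ) : Coh.toAb (P.term p) ⟶ K.K.X p :=
  (SheafOfModules.toSheaf X.ringCatSheaf).map (LogNCD.inclTwist (K.term p) (∏ i, D i ^ μ i)) ≫ (K.iso p).inv

theorem toF_incl (p : ℕ) (U : X.affineOpens) (z : Γ(P.term p, U.1)) :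
    toF K p U ((P.incl p).hom.app (op U.1) z) =
      K.loc p U ((LogNCD.inclTwist (K.term p) (∏ i, D i ^ μ i)).app U.1 z) := by
  show K.loc p U ((K.iso p).hom.hom.app (op U.1) (((K.iso p).inv.hom.app (op U.1)) _)) = _
  exact congrArg _ congr(($((K.iso p).inv_hom_id)).hom.app (op U.1) _)

theorem incl_res (p : ℕ) {O V : X.Opens} (h : V ≤ O) (w : Γ(P.term p, O)) :
    (P.incl p).hom.app (op V) (rs (P.term p) h w) = (K.K.X p).obj.map (homOfLE h).op ((P.incl p).hom.app (op O) w) :=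
  ConcreteCategory.congr_hom ((P.incl p).hom.naturality (homOfLE h).op) w

theorem incl_injective (p : ℕ) (O : X.Opens) : Function.Injective ((P.incl p).hom.app (op O)) := by
  intro a b hab
  choose U hxU hUO hne hgood using fun x : O => exists_good_ne (Λ := Λ) P.hd P.hD x.2
  refine TopCat.Sheaf.eq_of_locally_eq' (F := ⟨(P.term p).presheaf, (P.term p).isSheaf⟩) (fun x => (U x).1) O
    (fun x => homOfLE (hUO x)) (fun y hy => Opens.mem_iSup.2 ⟨⟨y, hy⟩, hxU ⟨y, hy⟩⟩) _ _ fun x => ?_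
  have h := ((P.incl_res p (hUO x) a).trans (congrArg ((K.K.X p).obj.map (homOfLE (hUO x)).op) hab)).trans
    (P.incl_res p (hUO x) b).symm
  have h2 := ((P.toF_incl p (U x) _).symm.trans (congrArg (toF K p (U x)) h)).trans (P.toF_incl p (U x) _)
  haveI : Nonempty (U x).1 := ⟨⟨x, hxU x⟩⟩
  rcases hgood x with hU | ⟨-, ⟨F⟩⟩
  · exact inclTwist_injective _ _ (P.hT p) (U x) (ideal_twist_off D μ (U x) hU) one_ne_zero
      ((K.loc p (U x)).injective h2)
  · refine inclTwist_injective _ _ (P.hT p) (U x) (F.ideal_twist μ) (Finset.prod_ne_zero_iff.2 fun l hl => pow_ne_zero _ ?_)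
      ((K.loc p (U x)).injective h2)
    obtain ⟨i, hi⟩ := (F.mem_poles l).1 hl
    exact F.ne_zero i l hi

theorem range_incl (p : ℕ) (U : X.affineOpens) {G : Γ(X, U.1)} (hG : (∏ i, D i ^ μ i).ideal U = Ideal.span {G})
    (x : (K.K.X p).obj.obj (op U.1)) :
    x ∈ Set.range ((P.incl p).hom.app (op U.1)) ↔ toF K p U x ∈ Chart.mult G (Fm Λ.L E p U.1) := by
  constructor
  · rintro ⟨z, rfl⟩
    obtain ⟨e, k', hk, hz⟩ := inclTwist_mem (K.term p) _ (QCoh.isQCoh_of_isFinLocFree (P.hT p)) U hG z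
    refine ⟨K.loc p U e, ?_⟩
    refine Eq.trans ?_ (P.toF_incl p U z).symm
    rw [hz, LinearMap.lsmul_apply, inclTwist_tmul, hk, map_smul]
  · rintro ⟨y, hy⟩
    obtain ⟨z, hz⟩ := exists_inclTwist_eq (K.term p) _ U (hG ▸ Ideal.mem_span_singleton_self G) ((K.loc p U).symm y)
    refine ⟨z, Function.LeftInverse.injective (ofF_toF K p U) ?_⟩
    refine (P.toF_incl p U z).trans ?_
    rw [hz, map_smul, LinearEquiv.apply_symm_apply]
    exact hy

theorem d_mem_range (p : ℕ) {U : X.affineOpens} (hne : U.1 ≠ ⊥) (hU : IsGood Λ U) (w : Γ(P.term p, U.1)) :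
    (K.K.d p (p + 1)).hom.app (op U.1) ((P.incl p).hom.app (op U.1) w) ∈
      Set.range ((P.incl (p + 1)).hom.app (op U.1)) := by
  have hd' : ∀ x : (K.K.X p).obj.obj (op U.1),
      toF K (p + 1) U ((K.K.d p (p + 1)).hom.app (op U.1) x) = dF K p U (toF K p U x) := fun x =>
    congrArg (fun y => toF K (p + 1) U ((K.K.d p (p + 1)).hom.app (op U.1) y)) (ofF_toF K p U x).symm
  rcases hU with hU | ⟨-, ⟨F⟩⟩
  · rw [P.range_incl _ U (ideal_twist_off D μ U hU)]
    exact ⟨_, one_smul _ _⟩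
  · rw [P.range_incl _ U (F.ideal_twist μ), hd']
    obtain ⟨v, hv⟩ := (P.range_incl p U (F.ideal_twist μ) _).1 ⟨w, rfl⟩
    rw [← hv]
    exact ⟨_, ((F.chart P.hd hne P.hE K).d_mon_smul (F.mult μ) p v).symm⟩

/-- The embedding data. -/
def embData : EmbData K.K where
  Q p := Coh.toAb (P.term p)
  ι O := O
  mono h := h
  le _ := le_rfl
  inf_le _ _ := inf_le_right
  e p O := ((P.incl p).hom.app (op O)).hom
  inj p O := P.incl_injective p O
  nat p _ _ h w := P.incl_res p h w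
  ex p O w t ht := by
    obtain ⟨U, htU, hle, hne, hgood⟩ := exists_good_ne (Λ := Λ) P.hd P.hD ht
    refine ⟨U.1, hle, htU, ?_⟩
    exact P.d_mem_range p hne hgood _

/-- The subcomplex. -/
def cx : CochainComplex (Sheaf (Opens.grothendieckTopology X) AddCommGrpCat.{u}) ℕ := P.embData.cx

theorem incl_d (p : ℕ) (O : X.Opens) (w : Γ(P.term p, O)) :
    (P.incl (p + 1)).hom.app (op O) ((P.cx.d p (p + 1)).hom.app (op O) w) =
      (K.K.d p (p + 1)).hom.app (op O) ((P.incl p).hom.app (op O) w) :=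
  P.embData.e_cx_d p O w

/-- The inclusion. -/
def fromCx : P.cx ⟶ K.K where
  f p := P.incl p
  comm' p q h := by
    obtain rfl : p + 1 = q := h
    refine Sheaf.hom_ext ?_
    ext O w
    exact (P.incl_d p O.unop w).symm

theorem mono_fromCx (p : ℕ) : Mono (P.fromCx.f p) := by
  have h : ∀ O, Mono (((sheafToPresheaf _ _).map (P.incl p)).app O) := fun O =>
    (AddCommGrpCat.mono_iff_injective _).2 (P.incl_injective p O.unop)
  have : Mono ((sheafToPresheaf _ _).map (P.incl p)) := NatTrans.mono_of_mono_app _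
  exact (sheafToPresheaf _ _).mono_of_mono_map (f := P.incl p) inferInstance

theorem theta_bij (hθ : ThetaBij K μ) {U : X.affineOpens} (F : LogFrame Λ U) (hne : U.1 ≠ ⊥) (j : Fin F.n)
    (hj : j ∈ (F.chart P.hd hne P.hE K).J) (ν : Fin F.n → ℕ) (hν : ν j < F.mult μ j) :
    (∀ e, ∃ e', (F.chart P.hd hne P.hE K).theta ν j e' - e ∈ Chart.mult (F.v j) Γ(E, U.1)) ∧
      ∀ e, (F.chart P.hd hne P.hE K).theta ν j e ∈ Chart.mult (F.v j) Γ(E, U.1) →
        e ∈ Chart.mult (F.v j) Γ(E, U.1) := by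
  obtain ⟨i, hi⟩ := (F.mem_poles j).1 hj
  have heq : ∀ e, (F.chart P.hd hne P.hE K).theta ν j e = thetaF K F j (ν j) e := fun e =>
    (F.chart P.hd hne P.hE K).theta_eq ν hj e
  rw [F.mult_eq μ hi] at hν
  simp only [heq]
  exact hθ U F hne i j hi (ν j) hν

theorem quasiIso_fromCx (hθ : ThetaBij K μ) : QuasiIso P.fromCx := by
  haveI := P.mono_fromCx
  have hd' : ∀ (p : ℕ) (U : X.affineOpens) (x : (K.K.X p).obj.obj (op U.1)),
      toF K (p + 1) U ((K.K.d p (p + 1)).hom.app (op U.1) x) = dF K p U (toF K p U x) := fun p U x =>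
    congrArg (fun y => toF K (p + 1) U ((K.K.d p (p + 1)).hom.app (op U.1) y)) (ofF_toF K p U x).symm
  refine quasiIso_of_lifts _ (fun O y hy t ht => ?_) (fun n O y hy t ht => ?_)
  · obtain ⟨U, htU, hle, hne, hgood⟩ := exists_good_ne (Λ := Λ) P.hd P.hD ht
    refine ⟨U.1, hle, htU, ?_⟩
    rcases hgood with hU | ⟨-, ⟨F⟩⟩
    · exact (P.range_incl 0 U (ideal_twist_off D μ U hU) _).2 ⟨_, one_smul _ _⟩
    · obtain ⟨x, hx⟩ := hy
      have hr := (P.range_incl 1 U (F.ideal_twist μ) _).1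
        ⟨rs (P.term 1) hle x, (P.incl_res 1 hle x).trans ((congrArg ((K.K.X 1).obj.map (homOfLE hle).op) hx).trans
          (ConcreteCategory.congr_hom ((K.K.d 0 1).hom.naturality (homOfLE hle).op) y).symm)⟩
      rw [ConcreteCategory.comp_apply, hd'] at hr
      let C := F.chart P.hd hne P.hE K
      obtain ⟨h0, -⟩ := C.exists_primitive (F.mult μ) (fun j hj ν hν => (P.theta_bij hθ F hne j hj ν hν).1)
        fun j hj ν hν => (P.theta_bij hθ F hne j hj ν hν).2
      exact (P.range_incl 0 U (F.ideal_twist μ) _).2 (h0 _ hr)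
  · obtain ⟨U, htU, hle, hne, hgood⟩ := exists_good_ne (Λ := Λ) P.hd P.hD ht
    refine ⟨U.1, hle, htU, ?_⟩
    rcases hgood with hU | ⟨-, ⟨F⟩⟩
    · obtain ⟨x, hx⟩ := (P.range_incl (n + 1) U (ideal_twist_off D μ U hU)
        ((K.K.X (n + 1)).obj.map (homOfLE hle).op y)).2 ⟨_, one_smul _ _⟩
      exact ⟨x, 0, by rw [map_zero, add_zero]; exact hx⟩
    · obtain ⟨x, hx⟩ := hy
      have hr := (P.range_incl (n + 2) U (F.ideal_twist μ) _).1
        ⟨rs (P.term (n + 2)) hle x, (P.incl_res (n + 2) hle x).trans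
          ((congrArg ((K.K.X (n + 2)).obj.map (homOfLE hle).op) hx).trans
          (ConcreteCategory.congr_hom ((K.K.d (n + 1) (n + 2)).hom.naturality (homOfLE hle).op) y).symm)⟩
      rw [ConcreteCategory.comp_apply, hd'] at hr
      let C := F.chart P.hd hne P.hE K
      obtain ⟨-, h1⟩ := C.exists_primitive (F.mult μ) (fun j hj ν hν => (P.theta_bij hθ F hne j hj ν hν).1)
        fun j hj ν hν => (P.theta_bij hθ F hne j hj ν hν).2
      obtain ⟨u, hu⟩ := h1 n _ hr
      obtain ⟨z, hz⟩ := (P.range_incl (n + 1) U (F.ideal_twist μ) (ofF K (n + 1) U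
        (toF K (n + 1) U ((K.K.X (n + 1)).obj.map (homOfLE hle).op y) - dF K n U u))).2 (by rw [toF_ofF]; exact hu)
      refine ⟨z, ofF K n U u, Function.LeftInverse.injective (ofF_toF K (n + 1) U) ?_⟩
      rw [map_add]
      refine (congrArg₂ (· + ·) ((congrArg (toF K (n + 1) U) hz).trans (toF_ofF K (n + 1) U _))
        (rfl : _ = dF K n U u)).trans ?_
      exact sub_add_cancel _ _

end SubData

end Groth.Agent.LogDRGeo45
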