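import Groth.Agent.LogDRGeo45.Qis

/-!
# Residues in frames
-/

set_option autoImplicit false

universe u

open CategoryTheory CategoryTheory.Limits AlgebraicGeometry Opposite TopologicalSpace TensorProduct
open Groth.Agent.LogDR45

noncomputable section

namespace Groth.Agent.LogDRGeo45

/-- Evaluation of a multiple of the identity. -/
theorem app_nsmul_apply {X : Scheme.{u}} {M : X.Modules} (m : ℕ) (U : X.Opens) (y : Γ(M, U)) :
    (m • 𝟙 M : M ⟶ M).app U y = m • y := by
  induction m with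
  | zero => rw [zero_smul, zero_smul]; rfl
  | succ m ih => rw [succ_nsmul, succ_nsmul, Scheme.Modules.Hom.add_app, AddCommGrpCat.hom_add_apply, ih]; rfl

variable {X : Scheme.{u}} {k : Type u} [Field k] {f : X ⟶ Spec (CommRingCat.of k)} [QuasiSeparated f] [IsIntegral X]
  {Ω' : X.Modules} {d : OmegaSh.Der f Ω'} {r : ℕ} {D : Fin r → X.IdealSheafData}
  {Λ : LogNCD.LogMod d D} {E : X.Modules} {nabla : Coh.toAb E ⟶ Coh.toAb (CohB1.tensorMod E Λ.L)}
  (K : ConnSh.Cx (LogNCD.der Λ) E nabla)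
  {i : Fin r} {ρ : E ⟶ CohB1.tensorMod E (ClSub.quotMod (D i))}
  {R : CohB1.tensorMod E (ClSub.quotMod (D i)) ⟶ CohB1.tensorMod E (ClSub.quotMod (D i))}
  (hρ : LogNCD.IsResidue Λ E nabla i ρ)
  (hR : (SecTwist.unitorR E).inv ≫ KoszTw.tensorMap (𝟙 E) (ClSub.toSubscheme (D i)) ≫ R = ρ)

include hR in
theorem app_eq_quotSect (U : X.Opens) (e : Γ(E, U)) : ρ.app U e = R.app U (quotSect E (D i) U e) := by
  have h1 : (SecTwist.unitorR E).inv.app U e = SecTwist.tmul E (Coh.structureModule X) U e (OmegaSh.strSect X U 1) := by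
    have h0 : (SecTwist.unitorR E).hom.app U (SecTwist.tmul E (Coh.structureModule X) U e (OmegaSh.strSect X U 1)) = e :=
      (SecTwist.unitorR_tmul E U e 1).trans (one_smul _ _)
    exact (congrArg ((SecTwist.unitorR E).inv.app U) h0.symm).trans
      congr(($((SecTwist.unitorR E).hom_inv_id)).app U _)
  rw [← hR]
  show R.app U ((KoszTw.tensorMap (𝟙 E) (ClSub.toSubscheme (D i))).app U ((SecTwist.unitorR E).inv.app U e)) = _
  rw [h1]
  exact congrArg (R.app U) (KoszTw.tensorMap_tmul _ _ _ _ _)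

variable {U : X.affineOpens} (F : LogFrame Λ U) {l : Fin F.n}

include hρ hR in
/-- The residue is the coefficient of the logarithmic form, modulo the equation. -/
theorem quotSect_evalR (hl : F.comp i = some l) (e : Γ(E, U.1)) :
    quotSect E (D i) U.1 (evalR (F.bas.coord l) (nabF K U e)) = R.app U.1 (quotSect E (D i) U.1 e) := by
  rw [← app_eq_quotSect hR]
  have h0 : ρ.app U.1 e = (KoszTw.tensorMap (𝟙 E) (Λ.res i)).app U.1 (ConnSh.secApp nabla U.1 e) :=
    congr(($hρ).hom.app (op U.1) e)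
  have h2 : ∀ w : Γ(E, U.1) ⊗[Γ(X, U.1)] Γ(Λ.L, U.1),
      (KoszTw.tensorMap (𝟙 E) (Λ.res i)).app U.1 (K.iso1.hom.app U.1 ((K.loc 1 U).symm (Conn.toOne w))) =
        quotSect E (D i) U.1 (evalR (F.bas.coord l) w) := by
    intro w
    induction w using TensorProduct.induction_on with
    | zero => simp
    | add a b ha hb => simp only [map_add, ha, hb]
    | tmul m v =>
      have ht : Conn.toOne (m ⊗ₜ[Γ(X, U.1)] v) = m ⊗ₜ exteriorPower.ιMulti Γ(X, U.1) 1 ![v] := by
        rw [Conn.toOne_tmul]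
        congr 1
      have hv : (Λ.res i).app U.1 v = F.bas.coord l v • oneG (D i) U.1 := by
        conv_lhs => rw [← F.bas.sum_repr v, map_sum]
        rw [Finset.sum_eq_single l]
        · rw [Scheme.Modules.Hom.app_smul, F.res_bas, if_pos hl]
          rfl
        · intro a _ ha
          rw [Scheme.Modules.Hom.app_smul, F.res_bas, if_neg, smul_zero]
          rw [hl]
          exact fun e => ha (Option.some.inj e).symm
        · exact fun h => absurd (Finset.mem_univ l) h
      rw [ht, evalR_tmul]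
      refine (congrArg ((KoszTw.tensorMap (𝟙 E) (Λ.res i)).app U.1) (K.loc1 U m v)).trans ?_
      refine (KoszTw.tensorMap_tmul _ _ _ _ _).trans ?_
      show QCoh.tmLin E (ClSub.quotMod (D i)) U.1 (m ⊗ₜ[Γ(X, U.1)] (Λ.res i).app U.1 v) = _
      rw [hv, ← TensorProduct.smul_tmul]
      rfl
  rw [h0, ← h2, toOne_nabF, LinearEquiv.symm_apply_apply]
  exact congrArg _ (congr(($(K.iso1.inv_hom_id)).app U.1 (ConnSh.secApp nabla U.1 e))).symm.symm

variable [IsLocallyNoetherian X] (hE : FlatMod.IsFinLocFree E)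

include hρ hR hE in
/-- A shifted residue that is an isomorphism is bijective modulo the equation. -/
theorem thetaF_bij {m : ℕ} (h : IsIso (R + m • 𝟙 (CohB1.tensorMod E (ClSub.quotMod (D i))))) (hl : F.comp i = some l) :
    (∀ e, ∃ e', thetaF K F l m e' - e ∈ Chart.mult (F.v l) Γ(E, U.1)) ∧
      ∀ e, thetaF K F l m e ∈ Chart.mult (F.v l) Γ(E, U.1) → e ∈ Chart.mult (F.v l) Γ(E, U.1) := by
  have hq := QCoh.isQCoh_of_isFinLocFree hE
  have hI := F.ideal_some i l hl
  set T := R + m • 𝟙 (CohB1.tensorMod E (ClSub.quotMod (D i)))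
  have hker : ∀ e, quotSect E (D i) U.1 e = 0 → e ∈ Chart.mult (F.v l) Γ(E, U.1) :=
    fun e he => exists_smul_of_quotSect_eq_zero E (D i) hq U hI he
  have hmul : ∀ e ∈ Chart.mult (F.v l) Γ(E, U.1), quotSect E (D i) U.1 e = 0 := by
    rintro _ ⟨e, rfl⟩
    exact quotSect_smul_eq_zero E (D i) U (hI ▸ Ideal.mem_span_singleton_self _) e
  have key : ∀ e, quotSect E (D i) U.1 (thetaF K F l m e) = T.app U.1 (quotSect E (D i) U.1 e) := fun e => by
    rw [thetaF, map_add, map_nsmul, quotSect_evalR K hρ hR F hl]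
    rw [show T = R + m • 𝟙 _ from rfl, Scheme.Modules.Hom.add_app, AddCommGrpCat.hom_add_apply,
      app_nsmul_apply]
  have hT : Function.Bijective (T.app U.1) := ConcreteCategory.bijective_of_isIso (T.app U.1)
  refine ⟨fun e => ?_, fun e he => hker e (hT.1 ?_)⟩
  · obtain ⟨y, hy⟩ := hT.2 (quotSect E (D i) U.1 e)
    obtain ⟨e', rfl⟩ := quotSect_surjective E (D i) hq U y
    exact ⟨e', hker _ (by rw [map_sub, key, hy, sub_self])⟩
  · rw [← key, hmul _ he, map_zero]

end Groth.Agent.LogDRGeo45
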