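import Groth.Agent.LogDRGeo45.Dim
import Groth.Agent.H23.Frame

/-!
# The terms of a logarithmic de Rham complex are finite locally free
-/

set_option autoImplicit false

universe u

open CategoryTheory CategoryTheory.Limits AlgebraicGeometry Opposite TopologicalSpace exteriorPower TensorProduct
open Groth.Agent.LogDR45 Groth.Agent.H23

noncomputable section

namespace Groth.Agent.LogDRGeo45

variable {X : Scheme.{u}}

theorem rs_comb {M : X.Modules} {n : ℕ} {U : X.Opens} (s : Fin n → Γ(M, U)) {W V : X.Opens} (h : V ≤ W) (hW : W ≤ U)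
    (c : Fin n → Γ(X, W)) :
    rs M h (Frame.comb M s W hW c) = Frame.comb M s V (h.trans hW) fun i => X.presheaf.map (homOfLE h).op (c i) := by
  simp only [Frame.comb, rs, map_sum, Scheme.Modules.map_smul]
  refine Finset.sum_congr rfl fun i _ => congrArg (_ • ·) ?_
  rw [← ConcreteCategory.comp_apply, ← Functor.map_comp]
  rfl

/-- A frame is detected on the affine opens. -/
theorem isFrame_of_affines {M : X.Modules} {n : ℕ} {U : X.Opens} (s : Fin n → Γ(M, U))
    (h : ∀ (V : X.affineOpens) (hV : V.1 ≤ U), Function.Bijective (Frame.comb M s V.1 hV)) : Frame.IsFrame M s := by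
  intro W hW
  choose V hpV hVW using fun p : W => exists_affine_nhd W p.2
  have hcov : W ≤ iSup fun p => (V p).1 := fun x hx => Opens.mem_iSup.2 ⟨⟨x, hx⟩, hpV ⟨x, hx⟩⟩
  refine ⟨fun c c' hc => funext fun i => ?_, fun z => ?_⟩
  · refine TopCat.Sheaf.eq_of_locally_eq' (F := X.sheaf) (fun p => (V p).1) W (fun p => homOfLE (hVW p)) hcov _ _
      fun p => ?_
    have h1 := congrArg (rs M (hVW p)) hc
    rw [rs_comb, rs_comb] at h1
    exact congrFun ((h (V p) _).1 h1) i
  · choose c hc using fun p => (h (V p) ((hVW p).trans hW)).2 (rs M (hVW p) z)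
    have hcompat : ∀ i, TopCat.Presheaf.IsCompatible X.sheaf.obj (fun p => (V p).1) fun p => c p i := fun i p q => by
      choose O hxO hO using fun x : ((V p).1 ⊓ (V q).1 : X.Opens) => exists_affine_nhd ((V p).1 ⊓ (V q).1) x.2
      refine TopCat.Sheaf.eq_of_locally_eq' (F := X.sheaf) (fun x => (O x).1) _ (fun x => homOfLE (hO x))
        (fun x hx => Opens.mem_iSup.2 ⟨⟨x, hx⟩, hxO ⟨x, hx⟩⟩) _ _ fun x => ?_
      show X.presheaf.map _ (X.presheaf.map _ (c p i)) = X.presheaf.map _ (X.presheaf.map _ (c q i))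
      rw [← ConcreteCategory.comp_apply, ← ConcreteCategory.comp_apply, ← Functor.map_comp, ← Functor.map_comp]
      have hp : (O x).1 ≤ (V p).1 := (hO x).trans inf_le_left
      have hq : (O x).1 ≤ (V q).1 := (hO x).trans inf_le_right
      refine congrFun ((h (O x) (hp.trans ((hVW p).trans hW))).1
        (a₁ := fun j => X.presheaf.map (homOfLE hp).op (c p j))
        (a₂ := fun j => X.presheaf.map (homOfLE hq).op (c q j)) ?_) i
      rw [← rs_comb s hp ((hVW p).trans hW), ← rs_comb s hq ((hVW q).trans hW), hc, hc, rs, rs, rs, rs,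
        ← ConcreteCategory.comp_apply, ← ConcreteCategory.comp_apply, ← Functor.map_comp, ← Functor.map_comp]
      rfl
    choose a ha _ using fun i => TopCat.Sheaf.existsUnique_gluing' (F := X.sheaf) (fun p => (V p).1) W
      (fun p => homOfLE (hVW p)) hcov (fun p => c p i) (hcompat i)
    refine ⟨a, TopCat.Sheaf.eq_of_locally_eq' (F := ⟨M.presheaf, M.isSheaf⟩) (fun p => (V p).1) W
      (fun p => homOfLE (hVW p)) hcov _ _ fun p => ?_⟩
    refine (rs_comb s (hVW p) hW a).trans (Eq.trans ?_ (hc p))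
    exact congrArg (Frame.comb M s _ _) (funext fun i => ha i p)

variable {k : Type u} [Field k] {f : X ⟶ Spec (CommRingCat.of k)} [QuasiSeparated f] [Smooth f] [IsIntegral X]
  {Ω' : X.Modules} {d : OmegaSh.Der f Ω'} {r : ℕ} {D : Fin r → X.IdealSheafData} {Λ : LogNCD.LogMod d D}
  (hd : OmegaSh.IsUniversal d) (hD : LogNCD.IsNCD D f)

include hd hD in
/-- Frames of the logarithmic forms. -/
theorem exists_frame_L (n : ℕ) (hn : topologicalKrullDim ↥X ≤ n) (x : X) :
    ∃ (U : X.Opens) (m : ℕ), x ∈ U ∧ ∃ t : Fin m → Γ(Λ.L, U), Frame.IsFrame Λ.L t := by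
  suffices key : ∃ (U : X.affineOpens) (m : ℕ), x ∈ U.1 ∧
      Nonempty (Module.Basis (Fin m) Γ(X, U.1) Γ(Λ.L, U.1)) by
    obtain ⟨U, m, hxU, ⟨b⟩⟩ := key
    obtain ⟨e⟩ := QCoh.exists_free_restrict (isQCoh_L (Λ := Λ) hd hD) U.2 (b.reindex Equiv.ulift.symm).repr
    exact ⟨U.1, m, hxU, Frame.exists_frame e⟩
  obtain ⟨V, m, hxV, hm, ⟨b⟩⟩ := exists_nhd_basis_le hd n hn x
  obtain ⟨U, hxU, hle, hgood⟩ := exists_good Λ hd hD (O := V.1) (x := x) hxV
  rcases hgood with hU | ⟨hne, ⟨F⟩⟩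
  · obtain ⟨g, hgle, hxg⟩ := V.2.exists_basicOpen_le (V := U.1) ⟨x, hxU⟩ hxV
    let W : X.affineOpens := ⟨X.basicOpen g, V.2.basicOpen g⟩
    obtain ⟨b'⟩ := basis_basicOpen hd b g
    have hb := iota_bijective (Λ := Λ) hd W (ideal_res_top (U := U) hgle hU)
    exact ⟨W, m, hxg, ⟨b'.map (LinearEquiv.ofBijective (secLin Λ.ι W.1) hb)⟩⟩
  · exact ⟨U, F.n, hxU, ⟨F.bas⟩⟩

omit [QuasiSeparated f] [Smooth f] [IsIntegral X] in
theorem exists_basis_of_frame {M : X.Modules} {n : ℕ} {U : X.Opens} {s : Fin n → Γ(M, U)} (hs : Frame.IsFrame M s)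
    (V : X.Opens) (hV : V ≤ U) : ∃ b : Module.Basis (Fin n) Γ(X, V) Γ(M, V), ∀ i, b i = rs M hV (s i) := by
  let l : (Fin n → Γ(X, V)) →ₗ[Γ(X, V)] Γ(M, V) := Fintype.linearCombination Γ(X, V) fun i => rs M hV (s i)
  refine ⟨Module.Basis.ofEquivFun (LinearEquiv.ofBijective l (hs V hV)).symm, fun i => ?_⟩
  simp only [Module.Basis.coe_ofEquivFun, LinearEquiv.symm_symm, l]
  exact (Fintype.linearCombination_apply_single _ _ i 1).trans (one_smul _ _)

include hd hD in
/-- The terms are finite locally free. -/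
theorem isFinLocFree_term (n : ℕ) (hn : topologicalKrullDim ↥X ≤ n) {E : X.Modules} (hE : FlatMod.IsFinLocFree E)
    {nabla : Coh.toAb E ⟶ Coh.toAb (CohB1.tensorMod E Λ.L)} (K : ConnSh.Cx (LogNCD.der Λ) E nabla) (p : ℕ) :
    FlatMod.IsFinLocFree (K.term p) := by
  classical
  intro x
  obtain ⟨U₁, a, hx₁, ⟨e₁⟩⟩ := hE x
  obtain ⟨σ, hσ⟩ := Frame.exists_frame e₁
  obtain ⟨U₂, m, hx₂, t, ht⟩ := exists_frame_L (Λ := Λ) hd hD n hn x
  obtain ⟨U, hxU, hle⟩ := exists_affine_nhd (U₁ ⊓ U₂) (x := x) ⟨hx₁, hx₂⟩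
  have : Fintype (Set.powersetCard (Fin m) p) := Fintype.ofFinite _
  let ε := (Fintype.equivFin (Fin a × Set.powersetCard (Fin m) p)).symm
  let g : ∀ V : X.affineOpens, V.1 ≤ U.1 → Fin (Fintype.card (Fin a × Set.powersetCard (Fin m) p)) →
      Fm Λ.L E p V.1 := fun V hV j =>
    rs E (hV.trans (hle.trans inf_le_left)) (σ (ε j).1) ⊗ₜ[Γ(X, V.1)]
      ιMulti Γ(X, V.1) p (fun i => rs Λ.L (hV.trans (hle.trans inf_le_right))
        (t (Set.powersetCard.ofFinEmbEquiv.symm (ε j).2 i)))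
  let s : Fin (Fintype.card (Fin a × Set.powersetCard (Fin m) p)) → Γ(K.term p, U.1) :=
    fun j => (K.loc p U).symm (g U le_rfl j)
  refine ⟨U.1, _, hxU, Frame.exists_iso_of_frame s (isFrame_of_affines s fun V hV => ?_)⟩
  obtain ⟨bE, hbE⟩ := exists_basis_of_frame hσ V.1 (hV.trans (hle.trans inf_le_left))
  obtain ⟨bL, hbL⟩ := exists_basis_of_frame ht V.1 (hV.trans (hle.trans inf_le_right))
  let B := ((bE.tensorProduct (bL.exteriorPower p)).reindex ε.symm).map (K.loc p V).symm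
  have hB : ∀ j, rs (K.term p) hV (s j) = B j := fun j => by
    simp only [s, g, B, Module.Basis.map_apply, Module.Basis.reindex_apply, Equiv.symm_symm,
      Module.Basis.tensorProduct_apply', hbE, exteriorPower.basis_apply, exteriorPower.ιMulti_family]
    refine (K.loc_res p U V hV _ _).trans ?_
    congr 2
    · show rs E hV (rs E (hle.trans inf_le_left) (σ (ε j).1)) = _
      rw [rs, rs, rs, ← ConcreteCategory.comp_apply, ← Functor.map_comp]
      rfl
    · refine congrArg (ιMulti Γ(X, V.1) p) (funext fun i => ?_)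
      simp only [Function.comp_apply, hbL]
      show rs Λ.L hV (rs Λ.L (hle.trans inf_le_right) (t _)) = _
      rw [rs, rs, rs, ← ConcreteCategory.comp_apply, ← Functor.map_comp]
      rfl
  have hc : Frame.comb (K.term p) s V.1 hV = ⇑B.equivFun.symm := funext fun c => by
    rw [Module.Basis.equivFun_symm_apply]
    exact Finset.sum_congr rfl fun j _ => congrArg (c j • ·) (hB j)
  rw [hc]
  exact B.equivFun.symm.bijective

end Groth.Agent.LogDRGeo45
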