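import Groth.Agent.LogDRGeo45.Upper
import Groth.Agent.LogDRGeo45.TermFree
import Groth.Agent.LogDRGeo45.Degen
import Groth.Agent.H23.PicInv
import Groth.Agent.Lib.CurveDeg
import Groth.Agent.SurfInt.Ideal
import Groth.Agent.SurfInt.Basic

/-!
# Vanishing of the hypercohomology above the dimension plus the cohomological dimension of the divisor
-/

set_option autoImplicit false

universe u

open CategoryTheory CategoryTheory.Limits AlgebraicGeometry Opposite TopologicalSpace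

noncomputable section

namespace Groth.Agent.LogDRGeo45

variable {X : Scheme.{u}} {k : Type u} [Field k] {f : X ⟶ Spec (CommRingCat.of k)} [QuasiSeparated f] [IsIntegral X]
  [IsLocallyNoetherian X] [Smooth f] {Ω' : X.Modules} {d : OmegaSh.Der f Ω'} {r : ℕ} {D : Fin r → X.IdealSheafData}
  {Λ : LogNCD.LogMod d D} {E : X.Modules} {nabla : Coh.toAb E ⟶ Coh.toAb (CohB1.tensorMod E Λ.L)}
  (K : ConnSh.Cx (LogNCD.der Λ) E nabla) (hd : OmegaSh.IsUniversal d) (hD : LogNCD.IsNCD D f)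
  (hE : FlatMod.IsFinLocFree E) {ρ : ∀ i, E ⟶ CohB1.tensorMod E (ClSub.quotMod (D i))}
  (hρ : ∀ i, LogNCD.IsResidue Λ E nabla i (ρ i))
  {R : ∀ i, CohB1.tensorMod E (ClSub.quotMod (D i)) ⟶ CohB1.tensorMod E (ClSub.quotMod (D i))}
  (hR : ∀ i, (SecTwist.unitorR E).inv ≫ KoszTw.tensorMap (𝟙 E) (ClSub.toSubscheme (D i)) ≫ R i = ρ i)

omit [Smooth f] in
theorem isEffCartierIdeal_prod (Λ : LogNCD.LogMod d D) (hd : OmegaSh.IsUniversal d) (hD : LogNCD.IsNCD D f)
    (μ : Fin r → ℕ) : BlowUp.IsEffCartierIdeal (∏ i, D i ^ μ i) := by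
  intro x
  obtain ⟨U, hxU, -, hU⟩ := exists_good Λ hd hD (O := ⊤) (x := x) trivial
  rcases hU with hU | ⟨hne', ⟨F⟩⟩
  · haveI : Nonempty U.1 := ⟨⟨x, hxU⟩⟩
    exact ⟨U, hxU, 1, mem_nonZeroDivisors_of_ne_zero one_ne_zero, ideal_twist_off D μ U hU⟩
  · haveI : Nonempty U.1 := ⟨⟨x, hxU⟩⟩
    exact ⟨U, hxU, _, mem_nonZeroDivisors_of_ne_zero (Finset.prod_ne_zero_iff.2 fun l hl => pow_ne_zero _ (by
      obtain ⟨i, hi⟩ := (F.mem_poles l).1 hl
      exact F.ne_zero i l hi)), F.ideal_twist μ⟩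

variable [HasDerivedCategory.{u} (Sheaf (Opens.grothendieckTopology X) AddCommGrpCat.{u})]

include hd hD hE hρ hR in
/-- The hypercohomology vanishes above `n + c`. -/
theorem subsingleton_HT_of_cd_upper (n : ℕ) (hn : topologicalKrullDim ↥X ≤ n) (s : Finset (Fin r))
    (hstar : ∀ j ∈ s, ∀ m : ℕ, 1 ≤ m → IsIso (R j - m • 𝟙 (CohB1.tensorMod E (ClSub.quotMod (D j)))))
    (c : ℕ) (β : Fin r → ℕ) (hβ : ∀ j, j ∉ s → β j = 0)
    (hcd : ∀ (G : X.Modules), Coh.IsCoh G → ∀ q : ℕ, c < q → ∃ ν₀ : ℕ, 0 < ν₀ ∧ ∀ ν : ℕ, 0 < ν → ν₀ ∣ ν →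
      ∀ M : X.Modules, ClSub.IsInverseOf M (ClSub.idealMod (∏ j, D j ^ (ν * β j))) →
        Subsingleton (Coh.HH X (CohB1.tensorMod G M) q))
    (m : ℕ) (hm : n + c < m) :
    Subsingleton (E1Deg.HT (CohCx.freeSheaf (Opens.grothendieckTopology X) (⊤ : X.Opens)) K.KZ (m : ℤ)) := by
  classical
  have hT := isFinLocFree_term (Λ := Λ) hd hD n hn hE K
  choose ν₀ hν₀ hvan using fun p : Fin (n + 1) =>
    hcd (K.term p) (CurveDeg.isCoh_of_isFinLocFree (hT p)) (m - p) (by have := p.2; omega)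
  let ν := ∏ p, ν₀ p
  have hν : 0 < ν := Finset.prod_pos fun p _ => hν₀ p
  have hcart : BlowUp.IsEffCartierIdeal (∏ j, D j ^ (ν * β j)) :=
    isEffCartierIdeal_prod Λ hd hD _
  obtain ⟨M, hMinv, ⟨e₀⟩⟩ := H23.PicInv.exists_inverse (SurfInt.isInvertible_idealMod hcart)
  let e := SurfInt.tComm M (ClSub.idealMod (∏ j, D j ^ (ν * β j))) ≪≫ e₀
  let P : TwData K (fun j => ν * β j) :=
    { hd := hd, hD := hD, hE := hE, M := M, Φ := e, hM := H23.PullPush.isFinLocFree_of_isInvertible hMinv, hT := hT }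
  haveI : QuasiIso P.toCx := P.quasiIso_toCx hρ hR fun j s' hs' hsμ => by
    by_cases hj : j ∈ s
    · exact hstar j hj s' hs'
    · have hsμ' : s' ≤ ν * β j := hsμ
      rw [hβ j hj, mul_zero] at hsμ'
      omega
  let Q : CochainComplex (Sheaf (Opens.grothendieckTopology X) AddCommGrpCat.{u}) ℤ :=
    P.cx.extend ComplexShape.embeddingUpNat
  let φ : K.KZ ⟶ Q := HomologicalComplex.extendMap P.toCx ComplexShape.embeddingUpNat
  haveI : QuasiIso φ := (HomologicalComplex.quasiIso_extendMap_iff ..).2 inferInstance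
  have hQ : Subsingleton (E1Deg.HT (CohCx.freeSheaf (Opens.grothendieckTopology X) (⊤ : X.Opens)) Q (m : ℤ)) := by
    refine DRHyp.subsingleton_HT.{u, u} _ Q 0 m fun i q hiq => ?_
    by_cases hi : 0 ≤ i
    · obtain ⟨p, rfl⟩ := Int.eq_ofNat_of_zero_le hi
      let eX : Q.X (p : ℤ) ≅ Coh.toAb (P.term p) := P.cx.extendXIso ComplexShape.embeddingUpNat (i := p) rfl
      by_cases hp : p ≤ n
      · have h := hvan ⟨p, by omega⟩ ν hν (Finset.dvd_prod_of_mem ν₀ (Finset.mem_univ _)) M ⟨e⟩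
        simp only [show m - p = q by omega] at h
        haveI : Subsingleton (Sheaf.H (Coh.toAb (P.term p)) q) := h
        exact ((E1Deg.extCongrRight.{u} _ eX q).trans (DRHyp.extTopEquiv _ q)).injective.subsingleton
      · exact subsingleton_ext_of_isZero _
          (IsZero.of_iso (P.embData.isZero_X p (isZero_KX K hd hD n p hn (by omega))) eX) q
    · exact subsingleton_ext_of_isZero _ (Q.isZero_of_isStrictlyGE 0 i (by omega)) q
  exact (HTmap_quasiIso_bijective _ φ m).1.subsingleton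

end Groth.Agent.LogDRGeo45
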