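import Groth.Agent.LogDRGeo45.Lower
import Groth.Agent.LogDRGeo45.UpperVanish
import Groth.Agent.LogDRGeo45.Residue

/-!
# Vanishing of the hypercohomology below the dimension minus the cohomological dimension of the divisor

The duality enters through the hypothesis `hdual`: for a finite locally free `F` there is a coherent `G` such that
`H^(n-q)(G ⊗ M) = 0` forces `H^q(F ⊗ I) = 0` for an inverse `M` of an ideal `I`.
-/

set_option autoImplicit false

universe u

open CategoryTheory CategoryTheory.Limits AlgebraicGeometry Opposite TopologicalSpace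

noncomputable section

namespace Groth.Agent.LogDRGeo45

variable {X : Scheme.{u}} {k : Type u} [Field k] {f : X ⟶ Spec (CommRingCat.of k)} [QuasiSeparated f] [IsIntegral X]
  [IsLocallyNoetherian X] [Smooth f] {Ω' : X.Modules} {d : OmegaSh.Der f Ω'} {r : ℕ} {D : Fin r → X.IdealSheafData}
  {Λ : LogNCD.LogMod d D} {E : X.Modules} {nabla : Coh.toAb E ⟶ Coh.toAb (CohB1.tensorMod E Λ.L)}
  (K : ConnSh.Cx (LogNCD.der Λ) E nabla) (hd : OmegaSh.IsUniversal d) (hD : LogNCD.IsNCD D f)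
  (hE : FlatMod.IsFinLocFree E) {ρ : ∀ i, E ⟶ CohB1.tensorMod E (ClSub.quotMod (D i))}
  (hρ : ∀ i, LogNCD.IsResidue Λ E nabla i (ρ i))
  {R : ∀ i, CohB1.tensorMod E (ClSub.quotMod (D i)) ⟶ CohB1.tensorMod E (ClSub.quotMod (D i))}
  (hR : ∀ i, (SecTwist.unitorR E).inv ≫ KoszTw.tensorMap (𝟙 E) (ClSub.toSubscheme (D i)) ≫ R i = ρ i)
  [HasDerivedCategory.{u} (Sheaf (Opens.grothendieckTopology X) AddCommGrpCat.{u})]

include hd hD hE hρ hR in
/-- The hypercohomology vanishes below `n - c`. -/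
theorem subsingleton_HT_of_cd_lower (n : ℕ) (hn : topologicalKrullDim ↥X ≤ n)
    (hdual : ∀ F : X.Modules, FlatMod.IsFinLocFree F → ∃ G : X.Modules, Coh.IsCoh G ∧
      ∀ (I : X.IdealSheafData), BlowUp.IsEffCartierIdeal I → ∀ M : X.Modules,
        ClSub.IsInverseOf M (ClSub.idealMod I) → ∀ q : ℕ, q ≤ n →
          Subsingleton (Coh.HH X (CohB1.tensorMod G M) (n - q)) →
            Subsingleton (Coh.HH X (CohB1.tensorMod F (ClSub.idealMod I)) q))
    (s : Finset (Fin r))
    (hbang : ∀ j ∈ s, ∀ m : ℕ, IsIso (R j + m • 𝟙 (CohB1.tensorMod E (ClSub.quotMod (D j)))))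
    (c : ℕ) (β : Fin r → ℕ) (hβ : ∀ j, j ∉ s → β j = 0)
    (hcd : ∀ (G : X.Modules), Coh.IsCoh G → ∀ q : ℕ, c < q → ∃ ν₀ : ℕ, 0 < ν₀ ∧ ∀ ν : ℕ, 0 < ν → ν₀ ∣ ν →
      ∀ M : X.Modules, ClSub.IsInverseOf M (ClSub.idealMod (∏ j, D j ^ (ν * β j))) →
        Subsingleton (Coh.HH X (CohB1.tensorMod G M) q))
    (m : ℕ) (hm : m + c < n) :
    Subsingleton (E1Deg.HT (CohCx.freeSheaf (Opens.grothendieckTopology X) (⊤ : X.Opens)) K.KZ (m : ℤ)) := by
  classical
  have hT := isFinLocFree_term (Λ := Λ) hd hD n hn hE K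
  choose G hG hGd using fun p : Fin (m + 1) => hdual (K.term p) (hT p)
  choose ν₀ hν₀ hvan using fun p : Fin (m + 1) =>
    hcd (G p) (hG p) (n - (m - p)) (by omega)
  let ν := ∏ p, ν₀ p
  have hν : 0 < ν := Finset.prod_pos fun p _ => hν₀ p
  have hcart : BlowUp.IsEffCartierIdeal (∏ j, D j ^ (ν * β j)) := isEffCartierIdeal_prod Λ hd hD _
  obtain ⟨M, -, ⟨e₀⟩⟩ := H23.PicInv.exists_inverse (SurfInt.isInvertible_idealMod hcart)
  let e := SurfInt.tComm M (ClSub.idealMod (∏ j, D j ^ (ν * β j))) ≪≫ e₀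
  let P : SubData K (fun j => ν * β j) := { hd := hd, hD := hD, hE := hE, hT := hT }
  have hθ : ThetaBij K (fun j => ν * β j) := fun U F _ i l hl s' hs' => by
    by_cases hi : i ∈ s
    · exact thetaF_bij K (hρ i) (hR i) F hE (hbang i hi s') hl
    · have hs'' : s' < ν * β i := hs'
      rw [hβ i hi, mul_zero] at hs''
      omega
  haveI : QuasiIso P.fromCx := P.quasiIso_fromCx hθ
  let Q : CochainComplex (Sheaf (Opens.grothendieckTopology X) AddCommGrpCat.{u}) ℤ :=
    P.cx.extend ComplexShape.embeddingUpNat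
  let φ : Q ⟶ K.KZ := HomologicalComplex.extendMap P.fromCx ComplexShape.embeddingUpNat
  haveI : QuasiIso φ := (HomologicalComplex.quasiIso_extendMap_iff ..).2 inferInstance
  have hQ : Subsingleton (E1Deg.HT (CohCx.freeSheaf (Opens.grothendieckTopology X) (⊤ : X.Opens)) Q (m : ℤ)) := by
    refine DRHyp.subsingleton_HT.{u, u} _ Q 0 m fun i q hiq => ?_
    by_cases hi : 0 ≤ i
    · obtain ⟨p, rfl⟩ := Int.eq_ofNat_of_zero_le hi
      let eX : Q.X (p : ℤ) ≅ Coh.toAb (P.term p) := P.cx.extendXIso ComplexShape.embeddingUpNat (i := p) rfl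
      have h := hGd ⟨p, by omega⟩ _ hcart M ⟨e⟩ q (by omega) (by
        have h' := hvan ⟨p, by omega⟩ ν hν (Finset.dvd_prod_of_mem ν₀ (Finset.mem_univ _)) M ⟨e⟩
        simp only [show m - p = q by omega] at h'
        exact h')
      haveI : Subsingleton (Sheaf.H (Coh.toAb (P.term p)) q) := h
      exact ((E1Deg.extCongrRight.{u} _ eX q).trans (DRHyp.extTopEquiv _ q)).injective.subsingleton
    · exact subsingleton_ext_of_isZero _ (Q.isZero_of_isStrictlyGE 0 i (by omega)) q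
  exact (HTmap_quasiIso_bijective _ φ m).2.subsingleton

end Groth.Agent.LogDRGeo45
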