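import Groth.Agent.LogDRGeo45.Comm
import Groth.Agent.GrModX.ChartQCoh
import Groth.Agent.Synt29.OmegaAffine
import Mathlib.RingTheory.Localization.Module

/-!
# The sheaf of logarithmic forms is quasi-coherent
-/

set_option autoImplicit false

universe u

open CategoryTheory AlgebraicGeometry Opposite TopologicalSpace

noncomputable section

namespace Groth.Agent.LogDRGeo45

variable {X : Scheme.{u}} {k : Type u} [Field k] {f : X ⟶ Spec (CommRingCat.of k)} [QuasiSeparated f]
  {Ω' : X.Modules} {d : OmegaSh.Der f Ω'} {r : ℕ} {D : Fin r → X.IdealSheafData} {Λ : LogNCD.LogMod d D}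

/-- The inclusion of forms without poles is bijective away from the divisor. -/
theorem iota_bijective (hd : OmegaSh.IsUniversal d) (U : X.affineOpens) (h : ∀ i, (D i).ideal U = ⊤) :
    Function.Bijective (Λ.ι.app U.1) := by
  haveI := Λ.mono
  refine ⟨ZClosLib.app_injective_of_mono Λ.ι U.1, fun y => ?_⟩
  have hy : y ∈ Submodule.span Γ(X, U.1) (Set.range (dlog Λ U.1)) := by rw [span_dlog hd U h]; trivial
  induction hy using Submodule.span_induction with
  | mem z hz =>
    obtain ⟨b, rfl⟩ := hz
    exact ⟨d.app U.1 b, rfl⟩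
  | zero => exact ⟨0, map_zero _⟩
  | add a b _ _ ha hb =>
    obtain ⟨a', rfl⟩ := ha
    obtain ⟨b', rfl⟩ := hb
    exact ⟨a' + b', map_add _ _ _⟩
  | smul c a _ ha =>
    obtain ⟨a', rfl⟩ := ha
    exact ⟨c • a', Λ.ι.app_smul c a'⟩

theorem ideal_res_top {U V : X.affineOpens} (hle : V.1 ≤ U.1) (h : ∀ i, (D i).ideal U = ⊤) (i : Fin r) :
    (D i).ideal V = ⊤ := by
  rw [Ideal.eq_top_iff_one, ← map_one (X.presheaf.map (homOfLE hle).op).hom]
  exact res_mem_ideal (D i) hle (by rw [h i]; trivial)

variable [IsIntegral X] (hd : OmegaSh.IsUniversal d) (hD : LogNCD.IsNCD D f)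

include hd hD in
/-- The sheaf of logarithmic forms of a normal crossing divisor is quasi-coherent. -/
theorem isQCoh_L : Coh.IsQCoh Λ.L := by
  choose U hxU _ hgood using fun x : X => exists_good Λ hd hD (O := ⊤) (x := x) trivial
  refine GrModX.isQCoh_of_affineCover_sections (fun x => (U x).1)
    (IsOpenCover.mk (top_le_iff.1 fun x _ => Opens.mem_iSup.2 ⟨x, hxU x⟩)) (fun x => (U x).2)
    (fun x g s => ?_) fun x g t ht => ?_
  · let V : X.affineOpens := ⟨X.basicOpen g, (U x).2.basicOpen g⟩
    have hle : V.1 ≤ (U x).1 := X.basicOpen_le g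
    rcases hgood x with hU | ⟨hne, ⟨F⟩⟩
    · obtain ⟨ω, rfl⟩ := (iota_bijective (Λ := Λ) hd V (ideal_res_top hle hU)).2 s
      obtain ⟨n, t, ht⟩ := QCoh.exists_pow_smul_eq_map (Synt29.OmegaStalk.isQCoh_of_isUniversal hd) (U x).2 g ω
      refine ⟨n, Λ.ι.app (U x).1 t, ?_⟩
      refine (ConcreteCategory.congr_hom (Λ.ι.mapPresheaf.naturality (homOfLE hle).op) t).symm.trans ?_
      exact (congrArg (Λ.ι.app V.1) ht).trans (Λ.ι.app_smul _ _)
    · by_cases hg : g = 0
      · subst hg
        refine ⟨1, 0, ?_⟩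
        rw [map_zero, map_zero, pow_one, zero_smul]
      · obtain ⟨bas', hbas'⟩ := F.exists_res V hle (basicOpen_ne_bot hg)
        haveI := (U x).2.isLocalization_basicOpen g
        choose b hb using fun l => IsLocalization.surj (Submonoid.powers g) (bas'.repr s l)
        choose m hm using fun l => (b l).2.2
        refine ⟨∑ l, m l, ∑ l, ((b l).1 * g ^ (∑ l', m l' - m l)) • F.bas l, ?_⟩
        rw [map_sum, ← bas'.sum_repr s, Finset.smul_sum]
        refine Finset.sum_congr rfl fun l _ => ?_
        rw [Scheme.Modules.map_smul, hbas' l, smul_smul]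
        congr 1
        have h1 := hb l
        rw [← hm l] at h1
        change bas'.repr s l * X.presheaf.map (homOfLE hle).op (g ^ m l) = X.presheaf.map (homOfLE hle).op (b l).1 at h1
        have h2 : m l ≤ ∑ l', m l' := Finset.single_le_sum (fun _ _ => Nat.zero_le _) (Finset.mem_univ l)
        rw [map_mul, ← h1, map_pow, map_pow, mul_assoc, ← pow_add, Nat.add_sub_cancel' h2, mul_comm]
  · let V : X.affineOpens := ⟨X.basicOpen g, (U x).2.basicOpen g⟩
    have hle : V.1 ≤ (U x).1 := X.basicOpen_le g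
    rcases hgood x with hU | ⟨hne, ⟨F⟩⟩
    · obtain ⟨ω, rfl⟩ := (iota_bijective (Λ := Λ) hd (U x) hU).2 t
      have hω : Ω'.presheaf.map (homOfLE hle).op ω = 0 := (iota_bijective (Λ := Λ) hd V (ideal_res_top hle hU)).1 <| by
        refine ((ConcreteCategory.congr_hom (Λ.ι.mapPresheaf.naturality (homOfLE hle).op) ω).trans ?_).trans
          (map_zero _).symm
        exact ht
      obtain ⟨n, hn⟩ := QCoh.exists_pow_smul_eq_zero_of_isCompact (Synt29.OmegaStalk.isQCoh_of_isUniversal hd)
        (U x).2.isCompact g ω hω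
      exact ⟨n, (Λ.ι.app_smul _ _).symm.trans ((congrArg (Λ.ι.app (U x).1) hn).trans (map_zero _))⟩
    · by_cases hg : g = 0
      · exact ⟨1, by subst hg; rw [pow_one, zero_smul]⟩
      · obtain ⟨bas', hbas'⟩ := F.exists_res V hle (basicOpen_ne_bot hg)
        haveI : Nonempty V.1 := by
          by_contra h
          rw [not_nonempty_iff] at h
          exact basicOpen_ne_bot hg (by ext y; exact ⟨fun hy => (h.false ⟨y, hy⟩).elim, fun hy => hy.elim⟩)
        refine ⟨0, ?_⟩
        rw [pow_zero, one_smul, ← F.bas.sum_repr t]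
        rw [← F.bas.sum_repr t, map_sum] at ht
        refine Finset.sum_eq_zero fun l _ => ?_
        have h1 : ∀ l, X.presheaf.map (homOfLE hle).op (F.bas.repr t l) = 0 :=
          Fintype.linearIndependent_iff.1 bas'.linearIndependent _ (by
            simpa only [Scheme.Modules.map_smul, hbas'] using ht)
        rw [(map_eq_zero_iff _ (map_injective_of_isIntegral X (homOfLE hle))).1 (h1 l), zero_smul]

end Groth.Agent.LogDRGeo45
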