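import Groth.Prelude.Def_LogNCD2
import Groth.Agent.QCoh.TensorSections
import Groth.Agent.QCoh.LocFree
import Groth.Agent.QCoh.Qcqs
import Groth.Agent.LocDual54.LocFreeKill
import Groth.Agent.OmegaLib.IdealMod
import Groth.Agent.SurfInt.Restrict
import Groth.Agent.ParShLib.ResStalk
import Mathlib.RingTheory.Flat.Basic

/-!
# Sections of a twist and of a restriction to a divisor over affine opens
-/

set_option autoImplicit false

universe u

open CategoryTheory AlgebraicGeometry Opposite TopologicalSpace TensorProduct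

noncomputable section

namespace Groth.Agent.LogDRGeo45

variable {X : Scheme.{u}}

/-- A nonzero function is regular on the sections of a locally free module. -/
theorem isSMulRegular_sections [IsIntegral X] {E : X.Modules} (hE : FlatMod.IsFinLocFree E) {U : X.Opens}
    (hU : IsAffineOpen U) {g : Γ(X, U)} (hg : g ≠ 0) : IsSMulRegular Γ(E, U) g := by
  haveI : Nonempty U := by
    by_contra h
    rw [not_nonempty_iff] at h
    have : U = ⊥ := by
      ext x
      exact ⟨fun hx => (h.false ⟨x, hx⟩).elim, fun hx => hx.elim⟩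
    subst this
    exact hg (Subsingleton.elim _ _)
  haveI := LocDual54.projective_sections hE hU
  exact Module.Flat.isSMulRegular_of_isRegular (IsRegular.of_ne_zero hg)

theorem basicOpen_ne_bot [IsIntegral X] {U : X.Opens} {g : Γ(X, U)} (hg : g ≠ 0) : X.basicOpen g ≠ ⊥ :=
  fun h => hg ((basicOpen_eq_bot_iff g).1 h)

/-- Restriction of sections of a locally free module to a dense basic open is injective. -/
theorem res_basicOpen_injective [IsIntegral X] {E : X.Modules} (hE : FlatMod.IsFinLocFree E) {U : X.Opens}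
    (hU : IsAffineOpen U) {g : Γ(X, U)} (hg : g ≠ 0) :
    Function.Injective (E.presheaf.map (homOfLE (X.basicOpen_le g)).op) := by
  refine (injective_iff_map_eq_zero (E.presheaf.map (homOfLE (X.basicOpen_le g)).op).hom).2 fun s hs => ?_
  obtain ⟨n, hn⟩ := QCoh.exists_pow_smul_eq_zero_of_isCompact (QCoh.isQCoh_of_isFinLocFree hE) hU.isCompact g s hs
  exact ((isSMulRegular_sections hE hU hg).pow n) (hn.trans (smul_zero _).symm)

variable (E : X.Modules) (I : X.IdealSheafData)

/-- The map induced by the ideal on decomposable sections. -/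
theorem inclTwist_tmul (U : X.Opens) (e : Γ(E, U)) (k : Γ(ClSub.idealMod I, U)) :
    (LogNCD.inclTwist E I).app U (SecTwist.tmul E (ClSub.idealMod I) U e k) = OmegaSh.idealSect I U k • e := by
  show (SecTwist.unitorR E).hom.app U ((KoszTw.tensorMap (𝟙 E) (ClSub.idealModι I)).app U _) = _
  rw [KoszTw.tensorMap_tmul]
  exact SecTwist.unitorR_tmul E U e _

/-- The image of `E(-B)` over an affine open on which `B` is principal. -/
theorem exists_inclTwist_eq (U : X.affineOpens) {G : Γ(X, U.1)} (hG : G ∈ I.ideal U) (e : Γ(E, U.1)) :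
    ∃ z, (LogNCD.inclTwist E I).app U.1 z = G • e := by
  obtain ⟨k, hk⟩ := OmegaLib.exists_of_mem I U G hG
  exact ⟨SecTwist.tmul E _ U.1 e k, by rw [inclTwist_tmul, hk]⟩

theorem inclTwist_mem [IsLocallyNoetherian X] (hE : Coh.IsQCoh E) (U : X.affineOpens) {G : Γ(X, U.1)}
    (hG : I.ideal U = Ideal.span {G}) (z : Γ(CohB1.tensorMod E (ClSub.idealMod I), U.1)) :
    ∃ (e : Γ(E, U.1)) (k : Γ(ClSub.idealMod I, U.1)), OmegaSh.idealSect I U.1 k = G ∧
      z = SecTwist.tmul E (ClSub.idealMod I) U.1 e k := by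
  obtain ⟨w, rfl⟩ := (QCoh.bijective_tmLin hE (SurfInt.isCoh_idealMod I).1 U.2).2 z
  obtain ⟨k₀, hk₀⟩ := OmegaLib.exists_of_mem I U G (hG ▸ Ideal.mem_span_singleton_self G)
  suffices h : ∃ e : Γ(E, U.1), w = e ⊗ₜ[Γ(X, U.1)] k₀ by
    obtain ⟨e, rfl⟩ := h
    exact ⟨e, k₀, hk₀, QCoh.tmLin_tmul E _ e k₀⟩
  induction w using TensorProduct.induction_on with
  | zero => exact ⟨0, (TensorProduct.zero_tmul _ _).symm⟩
  | add a b ha hb =>
    obtain ⟨e, rfl⟩ := ha
    obtain ⟨e', rfl⟩ := hb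
    exact ⟨e + e', (TensorProduct.add_tmul _ _ _).symm⟩
  | tmul e k =>
    have hk : OmegaSh.idealSect I U.1 k ∈ Ideal.span {G} := hG ▸ OmegaLib.idealSect_mem I U k
    obtain ⟨b, hb⟩ := Ideal.mem_span_singleton'.1 hk
    refine ⟨b • e, ?_⟩
    have : k = b • k₀ := OmegaLib.idealSect_injective I U.1 (by rw [OmegaLib.idealSect_smul, hk₀, hb])
    rw [this, TensorProduct.smul_tmul]

theorem inclTwist_injective [IsLocallyNoetherian X] [IsIntegral X] (hE : FlatMod.IsFinLocFree E)
    (U : X.affineOpens) {G : Γ(X, U.1)} (hG : I.ideal U = Ideal.span {G}) (hG0 : G ≠ 0) :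
    Function.Injective ((LogNCD.inclTwist E I).app U.1) := by
  refine (injective_iff_map_eq_zero ((LogNCD.inclTwist E I).app U.1).hom).2 fun z hz => ?_
  obtain ⟨e, k, hk, rfl⟩ := inclTwist_mem E I (QCoh.isQCoh_of_isFinLocFree hE) U hG z
  rw [inclTwist_tmul, hk] at hz
  obtain rfl : e = 0 := isSMulRegular_sections hE U.2 hG0 (hz.trans (smul_zero G).symm)
  exact (congrArg (QCoh.tmLin E (ClSub.idealMod I) U.1) (TensorProduct.zero_tmul _ k)).trans (map_zero _)

/-- The unit section of the subscheme, in the section type of the module library. -/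
def oneG (U : X.Opens) : Γ(ClSub.quotMod I, U) := LogNCD.oneOn I U

/-- The restriction of a section of `E` to the subscheme. -/
def quotSect (U : X.Opens) : Γ(E, U) →ₗ[Γ(X, U)] Γ(CohB1.tensorMod E (ClSub.quotMod I), U) :=
  (QCoh.tmLin E (ClSub.quotMod I) U).comp ((TensorProduct.mk Γ(X, U) _ _).flip (oneG I U))

theorem quotSect_apply (U : X.Opens) (e : Γ(E, U)) :
    quotSect E I U e = SecTwist.tmul E (ClSub.quotMod I) U e (LogNCD.oneOn I U) := rfl

theorem smul_oneOn (U : X.Opens) (a : Γ(X, U)) :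
    a • oneG I U = (ClSub.toSubscheme I).app U (OmegaSh.strSect X U a) := by
  show a • (ClSub.toSubscheme I).app U (OmegaSh.strSect X U 1) = _
  exact ((ClSub.toSubscheme I).app_smul a _).symm.trans (congrArg _ (mul_one a))

theorem smul_oneOn_eq_zero_iff (U : X.affineOpens) (a : Γ(X, U.1)) :
    a • oneG I U.1 = 0 ↔ a ∈ I.ideal U := by
  rw [← I.ker_subschemeι_app, RingHom.mem_ker, smul_oneOn]
  rfl

theorem exists_smul_oneOn (U : X.affineOpens) (q : Γ(ClSub.quotMod I, U.1)) :
    ∃ a : Γ(X, U.1), a • oneG I U.1 = q := by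
  obtain ⟨a, ha⟩ := I.subschemeι.app_surjective U.1 U.2 q
  exact ⟨a, (smul_oneOn I U.1 a).trans ha⟩

theorem quotSect_surjective [IsLocallyNoetherian X] (hE : Coh.IsQCoh E) (U : X.affineOpens) :
    Function.Surjective (quotSect E I U.1) := by
  intro z
  obtain ⟨w, rfl⟩ := (QCoh.bijective_tmLin hE (ParShLib.isCoh_quotMod (I := I)).1 U.2).2 z
  induction w using TensorProduct.induction_on with
  | zero => exact ⟨0, (map_zero _).trans (map_zero (QCoh.tmLin E (ClSub.quotMod I) U.1)).symm⟩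
  | add a b ha hb =>
    obtain ⟨e, he⟩ := ha
    obtain ⟨e', he'⟩ := hb
    exact ⟨e + e', by rw [map_add, map_add, he, he']; rfl⟩
  | tmul e q =>
    obtain ⟨a, rfl⟩ := exists_smul_oneOn I U q
    exact ⟨a • e, congrArg (QCoh.tmLin E (ClSub.quotMod I) U.1) (TensorProduct.smul_tmul a e (oneG I U.1))⟩

theorem quotSect_eq_zero [IsLocallyNoetherian X] (hE : Coh.IsQCoh E) (U : X.affineOpens) {e : Γ(E, U.1)}
    (h : quotSect E I U.1 e = 0) : e ∈ I.ideal U • (⊤ : Submodule Γ(X, U.1) Γ(E, U.1)) := by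
  have h' : e ⊗ₜ[Γ(X, U.1)] oneG I U.1 = 0 :=
    (QCoh.bijective_tmLin hE (ParShLib.isCoh_quotMod (I := I)).1 U.2).1 (h.trans (map_zero _).symm)
  let g : Γ(X, U.1) →ₗ[Γ(X, U.1)] Γ(ClSub.quotMod I, U.1) := LinearMap.toSpanSingleton _ _ (oneG I U.1)
  have hex : Function.Exact (I.ideal U).subtype g := fun a => by
    rw [show g a = a • oneG I U.1 from rfl, smul_oneOn_eq_zero_iff]
    exact ⟨fun ha => ⟨⟨a, ha⟩, rfl⟩, by rintro ⟨b, rfl⟩; exact b.2⟩
  obtain ⟨w, hw⟩ := (lTensor_exact Γ(E, U.1) hex (exists_smul_oneOn I U) (e ⊗ₜ[Γ(X, U.1)] (1 : Γ(X, U.1)))).1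
    (by show e ⊗ₜ[Γ(X, U.1)] ((1 : Γ(X, U.1)) • oneG I U.1) = 0; rw [one_smul]; exact h')
  have he : TensorProduct.rid Γ(X, U.1) Γ(E, U.1) ((I.ideal U).subtype.lTensor Γ(E, U.1) w) = e := by
    rw [hw, TensorProduct.rid_tmul, one_smul]
  rw [← he]
  clear he hw
  induction w using TensorProduct.induction_on with
  | zero => simp
  | add a b ha hb => rw [map_add, map_add]; exact add_mem ha hb
  | tmul m b =>
    simp only [LinearMap.lTensor_tmul, Submodule.coe_subtype, TensorProduct.rid_tmul]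
    exact Submodule.smul_mem_smul b.2 trivial

/-- The kernel of restriction to a principal divisor. -/
theorem exists_smul_of_quotSect_eq_zero [IsLocallyNoetherian X] (hE : Coh.IsQCoh E) (U : X.affineOpens)
    {g : Γ(X, U.1)} (hg : I.ideal U = Ideal.span {g}) {e : Γ(E, U.1)} (h : quotSect E I U.1 e = 0) :
    ∃ e', g • e' = e := by
  have h' := quotSect_eq_zero E I hE U h
  rw [hg, Submodule.ideal_span_singleton_smul] at h'
  obtain ⟨e', -, he'⟩ := (Submodule.mem_smul_pointwise_iff_exists e g ⊤).1 h'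
  exact ⟨e', he'⟩

theorem quotSect_smul_eq_zero (U : X.affineOpens) {g : Γ(X, U.1)} (hg : g ∈ I.ideal U) (e : Γ(E, U.1)) :
    quotSect E I U.1 (g • e) = 0 := by
  show QCoh.tmLin E (ClSub.quotMod I) U.1 ((g • e) ⊗ₜ[Γ(X, U.1)] oneG I U.1) = 0
  rw [TensorProduct.smul_tmul, (smul_oneOn_eq_zero_iff I U g).2 hg, TensorProduct.tmul_zero, map_zero]

end Groth.Agent.LogDRGeo45
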