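import Groth.Agent.LogDRGeo45.Coh

/-!
# Degeneration in the top degree
-/

set_option autoImplicit false

universe w v u

open CategoryTheory CategoryTheory.Limits

noncomputable section

namespace Groth.Agent.LogDRGeo45

variable {A : Type u} [Category.{v} A] [Abelian A] [HasDerivedCategory.{w} A]

/-- The inclusions of the stupid filtration are injective on hypercohomology under degeneration. -/
theorem injective_sigmaGEι (T : A) (K : CochainComplex A ℤ) [K.IsStrictlyGE 0] (hdeg : E1Deg.Degenerates T K)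
    (n : ℕ) (a : ℤ) : Function.Injective (E1Deg.HTmap T (E1Deg.sigmaGEι K (n : ℤ)) a) := by
  induction n with
  | zero =>
    haveI := E1Deg.isIso_sigmaGEι K ((0 : ℕ) : ℤ) fun m hm => K.isZero_of_isStrictlyGE 0 m (by omega)
    exact (DRHyp.HTmap_isIso_bijective T _ a).1
  | succ m ih =>
    intro x y h
    have e : E1Deg.sigmaGEι K ((m + 1 : ℕ) : ℤ) = E1Deg.sigmaGEιSucc K (m : ℤ) ≫ E1Deg.sigmaGEι K (m : ℤ) := by
      rw [E1Deg.sigmaGEιSucc_comp_ι]; rfl
    rw [e, E1Deg.HTmap_comp, E1Deg.HTmap_comp] at h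
    exact (hdeg a m).1 (ih h)

omit [HasDerivedCategory.{w} A] in
theorem isIso_sigmaGEπ (K : CochainComplex A ℤ) (i : ℤ) (h : ∀ m, i < m → IsZero (K.X m)) :
    IsIso (E1Deg.sigmaGEπ K i) := by
  have : ∀ m, IsIso ((E1Deg.sigmaGEπ K i).f m) := fun m => by
    by_cases hm : m = i
    · subst hm
      rw [E1Deg.sigmaGEπ_f]
      infer_instance
    · have h1 : IsZero ((E1Deg.sigmaGE K i).X m) := by
        by_cases hj : ∃ j : ℕ, (E1Deg.emb i).f j = m
        · obtain ⟨j, hj⟩ := hj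
          refine IsZero.of_iso ?_ (K.stupidTruncXIso (E1Deg.emb i) hj)
          refine h m ?_
          simp only [ComplexShape.embeddingUpIntGE_f] at hj
          omega
        · exact K.isZero_stupidTrunc_X (E1Deg.emb i) m (by simpa using hj)
      exact ⟨0, h1.eq_of_src _ _, (HomologicalComplex.isZero_single_obj_X (ComplexShape.up ℤ) i (K.X i) m hm).eq_of_src _ _⟩
  exact HomologicalComplex.Hom.isIso_of_components _

/-- Degeneration and a quasi-isomorphism give injectivity on the top graded piece. -/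
theorem eq_zero_of_comp_mk₀_eq_zero [HasExt.{w} A] (T : A) {K L : CochainComplex A ℤ} (φ : K ⟶ L) [QuasiIso φ]
    [K.IsStrictlyGE 0] (n : ℕ) (hK : ∀ m : ℤ, (n : ℤ) < m → IsZero (K.X m))
    (hL : ∀ m : ℤ, (n : ℤ) < m → IsZero (L.X m)) {Y' Y : A} (iso' : K.X (n : ℤ) ≅ Y') (iso : L.X (n : ℤ) ≅ Y)
    (g : Y' ⟶ Y) (hsq : φ.f (n : ℤ) ≫ iso.hom = iso'.hom ≫ g) (hdeg : E1Deg.Degenerates T K) (b : ℕ)
    (y : Abelian.Ext.{w} T Y' b) (hy : y.comp (Abelian.Ext.mk₀ g) (add_zero b) = 0) : y = 0 := by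
  haveI := isIso_sigmaGEπ K (n : ℤ) hK
  haveI := isIso_sigmaGEπ L (n : ℤ) hL
  have hb : (n : ℤ) + b = ((n + b : ℕ) : ℤ) := by push_cast; rfl
  let e' := (E1Deg.HTsingleEquiv T (K.X (n : ℤ)) n _ b hb).trans (E1Deg.extCongrRight.{w} T iso' b)
  let e := (E1Deg.HTsingleEquiv T (L.X (n : ℤ)) n _ b hb).trans (E1Deg.extCongrRight.{w} T iso b)
  obtain ⟨z, hz⟩ := (DRHyp.HTmap_isIso_bijective T (E1Deg.sigmaGEπ K (n : ℤ)) ((n + b : ℕ) : ℤ)).2 (e'.symm y)
  let ψ := HomologicalComplex.stupidTruncMap φ (E1Deg.emb (n : ℤ))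
  have hπ : ψ ≫ E1Deg.sigmaGEπ L (n : ℤ) =
      E1Deg.sigmaGEπ K (n : ℤ) ≫ (HomologicalComplex.single A (ComplexShape.up ℤ) (n : ℤ)).map (φ.f (n : ℤ)) := by
    refine HomologicalComplex.to_single_hom_ext ?_
    rw [HomologicalComplex.comp_f, HomologicalComplex.comp_f, E1Deg.sigmaGEπ_f, E1Deg.sigmaGEπ_f,
      HomologicalComplex.stupidTruncMap_stupidTruncXIso_hom_assoc]
    simp [HomologicalComplex.single_map_f_self]
  have hι : ψ ≫ E1Deg.sigmaGEι L (n : ℤ) = E1Deg.sigmaGEι K (n : ℤ) ≫ φ := by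
    ext m
    by_cases hm : ∃ j : ℕ, (E1Deg.emb (n : ℤ)).f j = m
    · obtain ⟨j, hj⟩ := hm
      rw [HomologicalComplex.comp_f, HomologicalComplex.comp_f, E1Deg.sigmaGEι_f_eq L _ hj,
        E1Deg.sigmaGEι_f_eq K _ hj, HomologicalComplex.stupidTruncMap_stupidTruncXIso_hom]
    · exact (K.isZero_stupidTrunc_X (E1Deg.emb (n : ℤ)) m (by simpa using hm)).eq_of_src _ _
  have h1 : E1Deg.HTmap T ψ _ z = 0 := by
    apply (DRHyp.HTmap_isIso_bijective T (E1Deg.sigmaGEπ L (n : ℤ)) ((n + b : ℕ) : ℤ)).1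
    rw [map_zero, ← E1Deg.HTmap_comp, hπ, E1Deg.HTmap_comp, hz]
    apply e.injective
    rw [map_zero, ← hy]
    conv_rhs => rw [← e'.apply_symm_apply y]
    show ((E1Deg.HTsingleEquiv T (L.X (n : ℤ)) n _ b hb) _).comp _ (add_zero b) =
      (((E1Deg.HTsingleEquiv T (K.X (n : ℤ)) n _ b hb) _).comp _ (add_zero b)).comp _ (add_zero b)
    rw [DRHyp.HTsingleEquiv_natural, Abelian.Ext.comp_assoc_of_second_deg_zero,
      Abelian.Ext.comp_assoc_of_second_deg_zero, Abelian.Ext.mk₀_comp_mk₀, Abelian.Ext.mk₀_comp_mk₀, hsq]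
  have h2 : z = 0 := by
    apply injective_sigmaGEι T K hdeg n _
    apply (HTmap_quasiIso_bijective T φ _).1
    rw [← E1Deg.HTmap_comp, ← hι, E1Deg.HTmap_comp, h1, map_zero, map_zero, map_zero]
  rw [← e'.apply_symm_apply y, ← hz, h2, map_zero, map_zero]

end Groth.Agent.LogDRGeo45
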