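import Groth.Agent.LogDRGeo45.TwistMap
import Groth.Agent.LogDRGeo45.EmbCx
import Groth.Agent.LogDR45.Untwist
import Groth.Agent.LogDRGeo45.Shift

/-!
# The complex twisted by an inverse of an ideal supported on the divisor
-/

set_option autoImplicit false

universe u

open CategoryTheory CategoryTheory.Limits AlgebraicGeometry Opposite TopologicalSpace TensorProduct
open Groth.Agent.LogDR45

noncomputable section

namespace Groth.Agent.LogDRGeo45

variable {X : Scheme.{u}} {k : Type u} [Field k] {f : X ⟶ Spec (CommRingCat.of k)} [QuasiSeparated f] [IsIntegral X]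
  [IsLocallyNoetherian X] {Ω' : X.Modules} {d : OmegaSh.Der f Ω'} {r : ℕ} {D : Fin r → X.IdealSheafData}
  {Λ : LogNCD.LogMod d D} {E : X.Modules} {nabla : Coh.toAb E ⟶ Coh.toAb (CohB1.tensorMod E Λ.L)}

/-- The data for a twist of the terms by an inverse of the ideal of an effective divisor on `D`. -/
structure TwData (K : ConnSh.Cx (LogNCD.der Λ) E nabla) (μ : Fin r → ℕ) where
  hd : OmegaSh.IsUniversal d
  hD : LogNCD.IsNCD D f
  hE : FlatMod.IsFinLocFree E
  /-- the inverse -/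
  M : X.Modules
  /-- the pairing -/
  Φ : CohB1.tensorMod M (ClSub.idealMod (∏ i, D i ^ μ i)) ≅ Coh.structureModule X
  hM : FlatMod.IsFinLocFree M
  hT : ∀ p, FlatMod.IsFinLocFree (K.term p)

namespace TwData

variable {K : ConnSh.Cx (LogNCD.der Λ) E nabla} {μ : Fin r → ℕ} (P : TwData K μ)

/-- The twisted terms. -/
def term (p : ℕ) : X.Modules := CohB1.tensorMod (K.term p) P.M

omit [QuasiSeparated f] [IsIntegral X] [IsLocallyNoetherian X] in
theorem hterm (p : ℕ) : FlatMod.IsFinLocFree (P.term p) :=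
  Groth.Agent.KFlatLib.isFinLocFree_tensor (P.hT p) P.hM

/-- The map from the terms to the twisted terms. -/
def phi (p : ℕ) : K.K.X p ⟶ Coh.toAb (P.term p) :=
  (K.iso p).hom ≫ (SheafOfModules.toSheaf X.ringCatSheaf).map (twistUp P.Φ (K.term p))

/-- The map on forms. -/
def phiF (p : ℕ) (U : X.affineOpens) : Fm Λ.L E p U.1 →ₗ[Γ(X, U.1)] Γ(P.term p, U.1) :=
  (secLin (twistUp P.Φ (K.term p)) U.1).comp (K.loc p U).symm.toLinearMap

omit [QuasiSeparated f] [IsIntegral X] [IsLocallyNoetherian X] in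
theorem phi_ofF (p : ℕ) (U : X.affineOpens) (z : Fm Λ.L E p U.1) :
    (P.phi p).hom.app (op U.1) (ofF K p U z) = P.phiF p U z := by
  show (twistUp P.Φ (K.term p)).app U.1
    ((K.iso p).hom.hom.app (op U.1) (((K.iso p).inv.hom.app (op U.1)) ((K.loc p U).symm z))) = _
  exact congrArg _ congr(($((K.iso p).inv_hom_id)).hom.app (op U.1) _)

omit [QuasiSeparated f] [IsIntegral X] [IsLocallyNoetherian X] in
theorem phi_res (p : ℕ) {O V : X.Opens} (h : V ≤ O) (x : (K.K.X p).obj.obj (op O)) :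
    (P.phi p).hom.app (op V) ((K.K.X p).obj.map (homOfLE h).op x) = rs (P.term p) h ((P.phi p).hom.app (op O) x) :=
  ConcreteCategory.congr_hom ((P.phi p).hom.naturality (homOfLE h).op) x

omit [QuasiSeparated f] [IsIntegral X] in
theorem twistUp_bijective (p : ℕ) (O : X.Opens) (hO : O ≤ offD D) :
    Function.Bijective ((twistUp P.Φ (K.term p)).app O) := by
  refine app_bijective_of_affines _ O fun V hV => ?_
  have hG := ideal_twist_off D μ V (ideal_eq_top_of_le_offD D V (hV.trans hO))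
  obtain ⟨χ, hχ⟩ := exists_twistUp_equiv P.Φ (QCoh.isQCoh_of_isFinLocFree P.hM)
    (QCoh.isQCoh_of_isFinLocFree (P.hT p)) V hG (IsSMulRegular.one _)
  refine ⟨fun a b hab => χ.injective (by rw [hχ, hχ, one_smul, one_smul] at hab; exact hab), fun y => ?_⟩
  obtain ⟨a, rfl⟩ := χ.surjective y
  exact ⟨a, (hχ a).trans (one_smul _ _)⟩

theorem phi_bijective (p : ℕ) (O : X.Opens) (hO : O ≤ offD D) : Function.Bijective ((P.phi p).hom.app (op O)) :=
  (P.twistUp_bijective p O hO).comp (ConcreteCategory.bijective_of_isIso ((K.iso p).hom.hom.app (op O)))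

/-- The embedding into the complex off the divisor. -/
def emb (p : ℕ) (O : X.Opens) : Γ(P.term p, O) →+ (K.K.X p).obj.obj (op (O ⊓ offD D)) :=
  ((AddEquiv.ofBijective ((P.phi p).hom.app (op (O ⊓ offD D))).hom
    (P.phi_bijective p _ inf_le_right)).symm.toAddMonoidHom).comp
    ((P.term p).presheaf.map (homOfLE (inf_le_left : O ⊓ offD D ≤ O)).op).hom

theorem phi_emb (p : ℕ) (O : X.Opens) (w : Γ(P.term p, O)) :
    (P.phi p).hom.app (op (O ⊓ offD D)) (P.emb p O w) = rs (P.term p) inf_le_left w :=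
  (AddEquiv.ofBijective ((P.phi p).hom.app (op (O ⊓ offD D))).hom (P.phi_bijective p _ inf_le_right)).apply_symm_apply _

theorem emb_phi (p : ℕ) (O : X.Opens) (x : (K.K.X p).obj.obj (op O)) :
    P.emb p O ((P.phi p).hom.app (op O) x) = (K.K.X p).obj.map (homOfLE inf_le_left).op x :=
  (P.phi_bijective p _ inf_le_right).1 ((P.phi_emb p O _).trans (P.phi_res p inf_le_left x).symm)

theorem emb_injective (p : ℕ) (O : X.Opens) : Function.Injective (P.emb p O) := fun a b hab =>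
  res_inf_offD_injective (Λ := Λ) P.hd P.hD (P.hterm p) O (by rw [← P.phi_emb, ← P.phi_emb, hab])

theorem emb_res (p : ℕ) {O V : X.Opens} (h : V ≤ O) (w : Γ(P.term p, O)) :
    P.emb p V (rs (P.term p) h w) = (K.K.X p).obj.map (homOfLE (inf_le_inf_right (offD D) h)).op (P.emb p O w) :=
  (P.phi_bijective p _ inf_le_right).1 (by
    rw [P.phi_emb, P.phi_res, P.phi_emb, rs_rs, rs_rs])

section Frame

variable {U : X.affineOpens} (F : LogFrame Λ U)

theorem exists_chi (hne : U.1 ≠ ⊥) (p : ℕ) : ∃ χ : Fm Λ.L E p U.1 ≃ₗ[Γ(X, U.1)] Γ(P.term p, U.1),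
    ∀ z, P.phiF p U z = (∏ l ∈ F.poles, F.v l ^ F.mult μ l) • χ z := by
  haveI : Nonempty U.1 := by
    by_contra h
    rw [not_nonempty_iff] at h
    exact hne (by ext y; exact ⟨fun hy => (h.false ⟨y, hy⟩).elim, fun hy => hy.elim⟩)
  have hreg : IsSMulRegular Γ(P.M, U.1) (∏ l ∈ F.poles, F.v l ^ F.mult μ l) :=
    isSMulRegular_sections P.hM U.2 (Finset.prod_ne_zero_iff.2 fun l hl => pow_ne_zero _ (by
      obtain ⟨i, hi⟩ := (F.mem_poles l).1 hl
      exact F.ne_zero i l hi))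
  obtain ⟨χ, hχ⟩ := exists_twistUp_equiv P.Φ (QCoh.isQCoh_of_isFinLocFree P.hM)
    (QCoh.isQCoh_of_isFinLocFree (P.hT p)) U (F.ideal_twist μ) hreg
  exact ⟨(K.loc p U).symm.trans χ, fun z => hχ _⟩

set_option maxHeartbeats 1600000 in
/-- The differential of the twist, in forms over a frame. -/
theorem emb_chi (hne : U.1 ≠ ⊥) (p : ℕ) (χ : Fm Λ.L E p U.1 ≃ₗ[Γ(X, U.1)] Γ(P.term p, U.1))
    (hχ : ∀ z, P.phiF p U z = (∏ l ∈ F.poles, F.v l ^ F.mult μ l) • χ z)
    (χ' : Fm Λ.L E (p + 1) U.1 ≃ₗ[Γ(X, U.1)] Γ(P.term (p + 1), U.1))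
    (hχ' : ∀ z, P.phiF (p + 1) U z = (∏ l ∈ F.poles, F.v l ^ F.mult μ l) • χ' z) (z : Fm Λ.L E p U.1) :
    P.emb (p + 1) U.1 (χ' ((F.chart P.hd hne P.hE K).dUn (F.mult μ) p z)) =
      (K.K.d p (p + 1)).hom.app (op (U.1 ⊓ offD D)) (P.emb p U.1 (χ z)) := by
  let C := F.chart P.hd hne P.hE K
  let G : Γ(X, U.1) := ∏ l ∈ F.poles, F.v l ^ F.mult μ l
  have hA : F.away.1 = U.1 ⊓ offD D := F.away_eq
  let g : Γ(X, F.away.1) := X.presheaf.map (homOfLE F.away_le).op G
  have hg : IsUnit g := by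
    simp only [g, G, map_prod, map_pow]
    refine Finset.prod_induction _ IsUnit (fun _ _ => IsUnit.mul) isUnit_one fun l hl => IsUnit.pow _ ?_
    obtain ⟨i, hi⟩ := (F.mem_poles l).1 hl
    have h := F.isUnit_eqn i
    rwa [LogFrame.eqn, hi, Option.elim_some] at h
  let u : ∀ q, Γ(P.term q, U.1) → Fm Λ.L E q F.away.1 := fun q w =>
    toF K q F.away ((K.K.X q).obj.map (homOfLE hA.le).op (P.emb q U.1 w))
  have hu : ∀ (q : ℕ) (ψ : Fm Λ.L E q U.1 ≃ₗ[Γ(X, U.1)] Γ(P.term q, U.1))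
      (_ : ∀ z, P.phiF q U z = G • ψ z) (z : Fm Λ.L E q U.1), g • u q (ψ z) = resF K F.away_le q z := by
    intro q ψ hψ z
    have hA' : F.away.1 ≤ offD D := hA.le.trans inf_le_right
    have hinj : Function.Injective (P.phiF q F.away) :=
      (P.twistUp_bijective q F.away.1 hA').1.comp (K.loc q F.away).symm.injective
    apply hinj
    rw [map_smul, ← P.phi_ofF, ofF_toF, P.phi_res, P.phi_emb, rs_rs]
    show g • rs (P.term q) F.away_le (ψ z) = _
    rw [← Scheme.Modules.map_smul, ← hψ]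
    show rs (P.term q) F.away_le ((twistUp P.Φ (K.term q)).app U.1 ((K.loc q U).symm z)) =
      (twistUp P.Φ (K.term q)).app F.away.1 ((K.loc q F.away).symm (resF K F.away_le q z))
    refine (rs_app (twistUp P.Φ (K.term q)) F.away_le _).trans ?_
    exact congrArg _ ((K.loc q F.away).symm_apply_apply _).symm
  -- compare after restriction to the basic open
  have hbij : Function.Injective ((K.K.X (p + 1)).obj.map (homOfLE hA.le).op) := fun a b hab => by
    have h := congrArg ((K.K.X (p + 1)).obj.map (homOfLE hA.ge).op) hab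
    rw [← ConcreteCategory.comp_apply, ← ConcreteCategory.comp_apply, ← Functor.map_comp, Subsingleton.elim
      ((homOfLE hA.le).op ≫ (homOfLE hA.ge).op) (𝟙 _), CategoryTheory.Functor.map_id] at h
    exact h
  apply hbij
  apply Function.LeftInverse.injective (ofF_toF K (p + 1) F.away)
  show u (p + 1) (χ' (C.dUn (F.mult μ) p z)) = _
  refine (hg.smul_left_cancel).1 ((hu (p + 1) χ' hχ' _).trans ?_)
  have hd' : toF K (p + 1) F.away ((K.K.X (p + 1)).obj.map (homOfLE hA.le).op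
      ((K.K.d p (p + 1)).hom.app (op (U.1 ⊓ offD D)) (P.emb p U.1 (χ z)))) = dF K p F.away (u p (χ z)) := by
    refine Eq.trans ?_ (congrArg (fun y => toF K (p + 1) F.away ((K.K.d p (p + 1)).hom.app (op F.away.1) y))
      (ofF_toF K p F.away _)).symm
    exact congrArg _ (ConcreteCategory.congr_hom ((K.K.d p (p + 1)).hom.naturality (homOfLE hA.le).op) _).symm
  rw [hd']
  have h1 : dF K p F.away (g • u p (χ z)) =
      g • dF K p F.away (u p (χ z)) + lw p (dSec (LogNCD.der Λ) F.away.1 g) (u p (χ z)) :=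
    isLeib_off P.hd K F.away F.ideal_away p g _
  rw [hu p χ hχ] at h1
  have h2 : dSec (LogNCD.der Λ) F.away.1 g = g • rs Λ.L F.away_le (C.alpha (F.mult μ)) := by
    rw [← rs_dSec F.away_le, show dSec (LogNCD.der Λ) U.1 G = C.δ (C.mon (F.mult μ)) from rfl, C.δ_mon]
    exact Scheme.Modules.map_smul _ _ _ _
  rw [h2, LinearMap.map_smul₂, ← (lw p (rs Λ.L F.away_le (C.alpha (F.mult μ)))).map_smul, hu p χ hχ,
    ← resF_dF, ← (isRes K F.away_le).lw_eq] at h1
  rw [Chart.dUn_apply, map_sub]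
  exact sub_eq_of_eq_add h1

end Frame

/-- The embedding data. -/
def embData : EmbData K.K where
  Q p := Coh.toAb (P.term p)
  ι O := O ⊓ offD D
  mono h := inf_le_inf_right _ h
  le _ := inf_le_left
  inf_le _ _ := le_inf inf_le_right (inf_le_left.trans inf_le_right)
  e := P.emb
  inj := P.emb_injective
  nat p _ _ h w := P.emb_res p h w
  ex p O w t ht := by
    obtain ⟨U, htU, hle, hne, hgood⟩ := exists_good_ne (Λ := Λ) P.hd P.hD ht
    refine ⟨U.1, hle, htU, ?_⟩
    rcases hgood with hU | ⟨-, ⟨F⟩⟩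
    · obtain ⟨x, hx⟩ := (P.phi_bijective p U.1 (le_offD D U hU)).2 (rs (P.term p) hle w)
      refine ⟨(P.phi (p + 1)).hom.app (op U.1) ((K.K.d p (p + 1)).hom.app (op U.1) x), ?_⟩
      show P.emb (p + 1) U.1 _ = (K.K.d p (p + 1)).hom.app (op (U.1 ⊓ offD D)) (P.emb p U.1 (rs (P.term p) hle w))
      rw [← hx, P.emb_phi, P.emb_phi]
      exact (ConcreteCategory.congr_hom ((K.K.d p (p + 1)).hom.naturality (homOfLE inf_le_left).op) x).symm
    · obtain ⟨χ, hχ⟩ := P.exists_chi F hne p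
      obtain ⟨χ', hχ'⟩ := P.exists_chi F hne (p + 1)
      obtain ⟨z, hz⟩ := χ.surjective (rs (P.term p) hle w)
      refine ⟨χ' ((F.chart P.hd hne P.hE K).dUn (F.mult μ) p z), ?_⟩
      show P.emb (p + 1) U.1 _ = (K.K.d p (p + 1)).hom.app (op (U.1 ⊓ offD D)) (P.emb p U.1 (rs (P.term p) hle w))
      rw [← hz]
      exact P.emb_chi F hne p χ hχ χ' hχ' z

/-- The twisted complex. -/
def cx : CochainComplex (Sheaf (Opens.grothendieckTopology X) AddCommGrpCat.{u}) ℕ := P.embData.cx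

theorem emb_d (p : ℕ) (O : X.Opens) (w : Γ(P.term p, O)) :
    P.emb (p + 1) O ((P.cx.d p (p + 1)).hom.app (op O) w) =
      (K.K.d p (p + 1)).hom.app (op (O ⊓ offD D)) (P.emb p O w) :=
  P.embData.e_cx_d p O w

/-- The map from the complex to its twist. -/
def toCx : K.K ⟶ P.cx where
  f p := P.phi p
  comm' p q h := by
    obtain rfl : p + 1 = q := h
    refine Sheaf.hom_ext ?_
    ext O x
    apply P.emb_injective (p + 1) O.unop
    show P.emb (p + 1) O.unop ((P.cx.d p (p + 1)).hom.app O ((P.phi p).hom.app O x)) =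
      P.emb (p + 1) O.unop ((P.phi (p + 1)).hom.app O ((K.K.d p (p + 1)).hom.app O x))
    refine (P.emb_d p O.unop _).trans ?_
    refine (congrArg ((K.K.d p (p + 1)).hom.app (op (O.unop ⊓ offD D))) (P.emb_phi p O.unop x)).trans ?_
    refine Eq.trans ?_ (P.emb_phi (p + 1) O.unop _).symm
    exact ConcreteCategory.congr_hom ((K.K.d p (p + 1)).hom.naturality (homOfLE inf_le_left).op) x

theorem mono_toCx (p : ℕ) : Mono (P.toCx.f p) := by
  suffices h : ∀ O : X.Opens, Function.Injective ((P.phi p).hom.app (op O)) by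
    haveI : ∀ O, Mono (((sheafToPresheaf _ _).map (P.phi p)).app O) := fun O =>
      (AddCommGrpCat.mono_iff_injective _).2 (h O.unop)
    haveI : Mono ((sheafToPresheaf _ _).map (P.phi p)) := NatTrans.mono_of_mono_app _
    exact (sheafToPresheaf _ _).mono_of_mono_map (f := P.phi p) inferInstance
  intro O a b hab
  apply (ConcreteCategory.bijective_of_isIso ((K.iso p).hom.hom.app (op O))).1
  apply res_inf_offD_injective (Λ := Λ) P.hd P.hD (P.hT p) O
  apply (P.twistUp_bijective p _ inf_le_right).1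
  exact ((rs_app (twistUp P.Φ (K.term p)) _ _).symm.trans (congrArg (rs (P.term p) inf_le_left) hab)).trans
    (rs_app (twistUp P.Φ (K.term p)) _ _)

variable {ρ : ∀ i, E ⟶ CohB1.tensorMod E (ClSub.quotMod (D i))} (hρ : ∀ i, LogNCD.IsResidue Λ E nabla i (ρ i))
  {R : ∀ i, CohB1.tensorMod E (ClSub.quotMod (D i)) ⟶ CohB1.tensorMod E (ClSub.quotMod (D i))}
  (hR : ∀ i, (SecTwist.unitorR E).inv ≫ KoszTw.tensorMap (𝟙 E) (ClSub.toSubscheme (D i)) ≫ R i = ρ i)
  (hres : ∀ i (m : ℕ), 1 ≤ m → m ≤ μ i → IsIso (R i - m • 𝟙 (CohB1.tensorMod E (ClSub.quotMod (D i)))))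

include hρ hR hres in
/-- Exactness on a frame. -/
theorem lifts_frame {U : X.affineOpens} (F : LogFrame Λ U) (hne : U.1 ≠ ⊥) :
    (∀ v : Γ(P.term 0, U.1), (P.cx.d 0 1).hom.app (op U.1) v ∈ Set.range ((P.phi 1).hom.app (op U.1)) →
      v ∈ Set.range ((P.phi 0).hom.app (op U.1))) ∧
    ∀ (p : ℕ) (v : Γ(P.term (p + 1), U.1)),
      (P.cx.d (p + 1) (p + 2)).hom.app (op U.1) v ∈ Set.range ((P.phi (p + 2)).hom.app (op U.1)) →
      ∃ x w, (P.toCx.f (p + 1)).hom.app (op U.1) x + (P.cx.d p (p + 1)).hom.app (op U.1) w = v := by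
  choose χ hχ using P.exists_chi F hne
  let C := F.chart P.hd hne P.hE K
  have hd' : ∀ (p : ℕ) (z : Fm Λ.L E p U.1),
      (P.cx.d p (p + 1)).hom.app (op U.1) (χ p z) = χ (p + 1) (C.dUn (F.mult μ) p z) := fun p z =>
    P.emb_injective (p + 1) U.1 ((P.emb_d p U.1 _).trans (P.emb_chi F hne p _ (hχ p) _ (hχ (p + 1)) z).symm)
  have hdd : ∀ p z, C.dUn (F.mult μ) (p + 1) (C.dUn (F.mult μ) p z) = 0 := fun p z => by
    apply (χ (p + 2)).injective
    rw [map_zero, ← hd', ← hd']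
    exact congr(($(P.cx.d_comp_d p (p + 1) (p + 2))).hom.app (op U.1) (χ p z))
  have hrange : ∀ (p : ℕ) (z : Fm Λ.L E p U.1), χ p z ∈ Set.range ((P.phi p).hom.app (op U.1)) ↔
      z ∈ Chart.mult ((C.untwist (F.mult μ) hdd).mon (F.mult μ)) _ := by
    intro p z
    constructor
    · rintro ⟨x, hx⟩
      refine ⟨toF K p U x, (χ p).injective ?_⟩
      rw [LinearMap.lsmul_apply, map_smul]
      refine (hχ p _).symm.trans ?_
      rw [← hx, ← P.phi_ofF, ofF_toF]
    · rintro ⟨y, rfl⟩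
      refine ⟨ofF K p U y, ?_⟩
      rw [P.phi_ofF, hχ, LinearMap.lsmul_apply, map_smul]
      rfl
  have hθ : ∀ j ∈ C.J, ∀ ν : Fin F.n → ℕ, ν j < F.mult μ j →
      (∀ e, ∃ e', (C.untwist (F.mult μ) hdd).theta ν j e' - e ∈ Chart.mult (C.x j) Γ(E, U.1)) ∧
        ∀ e, (C.untwist (F.mult μ) hdd).theta ν j e ∈ Chart.mult (C.x j) Γ(E, U.1) →
          e ∈ Chart.mult (C.x j) Γ(E, U.1) := by
    intro j hj ν hν
    obtain ⟨i, hi⟩ := (F.mem_poles j).1 hj
    rw [F.mult_eq μ hi] at hν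
    haveI := hres i (μ i - ν j) (by omega) (by omega)
    refine bij_of_key (QCoh.isQCoh_of_isFinLocFree P.hE) (D i) U (F.ideal_some i j hi)
      ((C.untwist (F.mult μ) hdd).theta ν j) (R i - (μ i - ν j) • 𝟙 _) fun e => ?_
    rw [C.untwist_theta (F.mult μ) hdd ν hj e, F.mult_eq μ hi, app_sub_nsmul,
      ← quotSect_evalR K (hρ i) (hR i) F hi, ← map_nsmul, ← map_sub]
    refine congrArg _ ?_
    have hsplit : μ i • e = (μ i - ν j) • e + ν j • e := by rw [← add_smul, Nat.sub_add_cancel hν.le]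
    rw [hsplit, show C.bas = F.bas from rfl, show C.nab e = nabF K U e from rfl]
    abel
  obtain ⟨h0, h1⟩ := (C.untwist (F.mult μ) hdd).exists_primitive (F.mult μ)
    (fun j hj ν hν => (hθ j hj ν hν).1) fun j hj ν hν => (hθ j hj ν hν).2
  refine ⟨fun v hv => ?_, fun p v hv => ?_⟩
  · obtain ⟨z, rfl⟩ := (χ 0).surjective v
    rw [hd'] at hv
    exact (hrange 0 z).2 (h0 z ((hrange 1 _).1 hv))
  · obtain ⟨z, rfl⟩ := (χ (p + 1)).surjective v
    rw [hd'] at hv
    obtain ⟨a, ha⟩ := h1 p z ((hrange (p + 2) _).1 hv)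
    obtain ⟨x, hx⟩ := (hrange (p + 1) _).2 ha
    refine ⟨x, χ p a, ?_⟩
    have hx' : (P.toCx.f (p + 1)).hom.app (op U.1) x = χ (p + 1) (z - C.dUn (F.mult μ) p a) := hx
    refine (congrArg₂ (· + ·) hx' (hd' p a)).trans ?_
    show χ (p + 1) _ + χ (p + 1) _ = _
    rw [← map_add]
    exact congrArg _ (sub_add_cancel z _)

include hρ hR hres in
theorem quasiIso_toCx : QuasiIso P.toCx := by
  haveI := P.mono_toCx
  refine quasiIso_of_lifts _ (fun O y hy t ht => ?_) (fun n O y hy t ht => ?_)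
  · obtain ⟨U, htU, hle, hne, hgood⟩ := exists_good_ne (Λ := Λ) P.hd P.hD ht
    refine ⟨U.1, hle, htU, ?_⟩
    rcases hgood with hU | ⟨-, ⟨F⟩⟩
    · exact (P.phi_bijective 0 U.1 (le_offD D U hU)).2 _
    · obtain ⟨x, hx⟩ := hy
      exact (P.lifts_frame hρ hR hres F hne).1 _ ⟨(K.K.X 1).obj.map (homOfLE hle).op x,
        ((P.phi_res 1 hle x).trans (congrArg (rs (P.term 1) hle) hx)).trans
          (ConcreteCategory.congr_hom ((P.cx.d 0 1).hom.naturality (homOfLE hle).op) y).symm⟩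
  · obtain ⟨U, htU, hle, hne, hgood⟩ := exists_good_ne (Λ := Λ) P.hd P.hD ht
    refine ⟨U.1, hle, htU, ?_⟩
    rcases hgood with hU | ⟨-, ⟨F⟩⟩
    · obtain ⟨x, hx⟩ := (P.phi_bijective (n + 1) U.1 (le_offD D U hU)).2 ((P.cx.X (n + 1)).obj.map (homOfLE hle).op y)
      exact ⟨x, 0, by rw [map_zero, add_zero]; exact hx⟩
    · obtain ⟨x, hx⟩ := hy
      exact (P.lifts_frame hρ hR hres F hne).2 n _ ⟨(K.K.X (n + 2)).obj.map (homOfLE hle).op x,
        ((P.phi_res (n + 2) hle x).trans (congrArg (rs (P.term (n + 2)) hle) hx)).trans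
          (ConcreteCategory.congr_hom ((P.cx.d (n + 1) (n + 2)).hom.naturality (homOfLE hle).op) y).symm⟩

end TwData

end Groth.Agent.LogDRGeo45
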